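import Groth.Agent.L10.HExact.SiteFlat
import Groth.Agent.L29.DCoh.TensorPerfect
import Groth.Agent.L29.DCoh.TorTest
import Groth.Agent.L29.DCoh.Approx
import Groth.Agent.L21.Mod.Locality

/-!
Left exactness of `M ↦ H^q(E ⊗ M)` on schemes: invariance and locality.
-/

set_option autoImplicit false
set_option linter.style.haveILetI false
set_option backward.defeqAttrib.useBackward true
set_option backward.isDefEq.respectTransparency false
set_option backward.isDefEq.respectTransparency.types false

universe u

open CategoryTheory CategoryTheory.Limits AlgebraicGeometry HomologicalComplex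

attribute [local instance] HasDerivedCategory.standard

noncomputable section

namespace Groth.L10.HExact.SchemeExact

open Groth.L29.DC Groth.L29.DC.TorTest Groth.L00.Tensor MonoidalCategory

variable {X : Scheme.{u}}

/-- `M ↦ E ⊗ M` termwise -/
abbrev Φ (E : CochainComplex X.Modules ℤ) : X.Modules ⥤ CochainComplex X.Modules ℤ :=
  SiteFlat.Φ (O := X.sheaf) E

theorem Φ_obj (E : CochainComplex X.Modules ℤ) (M : X.Modules) :
    (Φ E).obj M = ((DCoh.tensorRightMod M).mapHomologicalComplex (ComplexShape.up ℤ)).obj E := rfl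

theorem Φ_map_f (E : CochainComplex X.Modules ℤ) {M N : X.Modules} (g : M ⟶ N) (n : ℤ) :
    ((Φ E).map g).f n = ((DCoh.tensorBi (X := X)).obj (E.X n)).map g := rfl

/-- `M ↦ H^q(E ⊗ M)` preserves monomorphisms -/
def Good (E : CochainComplex X.Modules ℤ) (q : ℤ) : Prop :=
  ∀ (M N : X.Modules) (g : M ⟶ N), Mono g → Mono (homologyMap ((Φ E).map g) q)

theorem good_congr_map {P Q : CochainComplex X.Modules ℤ} (hP : DCoh.IsKFlat P) (hQ : DCoh.IsKFlat Q)
    (b : P ⟶ Q) {m : ℤ} (hb : Approx (DerivedCategory.Q.map b) m) {q : ℤ} (hq : m < q) :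
    Good P q ↔ Good Q q := by
  let c : ∀ M : X.Modules, (Φ P).obj M ⟶ (Φ Q).obj M := fun M =>
    ((DCoh.tensorRightMod M).mapHomologicalComplex (ComplexShape.up ℤ)).map b
  have hc : ∀ M, IsIso (homologyMap (c M) q) := fun M => by
    haveI := Groth.L00.DerivedApi.hasLTensorMod M
    have hG := Groth.L00.DerivedApi.acyclicKFlat_tensorMod M
    have h2 : Approx (DerivedCategory.Q.map (c M)) m :=
      approx_congr (Groth.L00.DerivedApi.objIso hG P hP) (Groth.L00.DerivedApi.objIso hG Q hQ)
        (objIso_natural hG hP hQ b) (Approx.map_LG hG hb)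
    haveI : IsIso ((DerivedCategory.homologyFunctor X.Modules q).map (DerivedCategory.Q.map (c M))) := h2.1 q hq
    exact (NatIso.isIso_map_iff (DerivedCategory.homologyFunctorFactors X.Modules q) (c M)).1
      (show IsIso ((DerivedCategory.Q ⋙ DerivedCategory.homologyFunctor X.Modules q).map (c M)) from this)
  have hsq : ∀ {M N : X.Modules} (g : M ⟶ N), (Φ P).map g ≫ c N = c M ≫ (Φ Q).map g := fun {M N} g => by
    ext n : 1
    exact (((DCoh.tensorBi (X := X)).map (b.f n)).naturality g)
  refine forall_congr' fun M => forall_congr' fun N => forall_congr' fun g => imp_congr_right fun _ => ?_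
  haveI := hc M
  haveI := hc N
  exact (MorphismProperty.monomorphisms X.Modules).arrow_mk_iso_iff
    (Arrow.isoMk (asIso (homologyMap (c M) q)) (asIso (homologyMap (c N) q)) (by
      simp only [Arrow.mk_hom, asIso_hom]
      rw [← homologyMap_comp, ← homologyMap_comp, hsq]))

/-- invariance under approximations in the derived category -/
theorem good_congr {P Q : CochainComplex X.Modules ℤ} (hP : DCoh.IsKFlat P) (hQ : DCoh.IsKFlat Q)
    (f : DerivedCategory.Q.obj P ⟶ DerivedCategory.Q.obj Q) {m : ℤ} (hf : Approx f m) {q : ℤ} (hq : m < q) :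
    Good P q ↔ Good Q q := by
  obtain ⟨R, s, hs, φ, rfl⟩ := DerivedCategory.right_fac f
  obtain ⟨A, r, hA, -, hr, -⟩ := Groth.L00.KFlat.exists_resolution R
  haveI := (DerivedCategory.isIso_Q_map_iff_quasiIso _ r).2 hr
  haveI : IsIso (DerivedCategory.Q.map (r ≫ s)) := by rw [Functor.map_comp]; infer_instance
  have h2 : Approx (DerivedCategory.Q.map (r ≫ φ)) m := by
    rw [show DerivedCategory.Q.map (r ≫ φ) =
      DerivedCategory.Q.map (r ≫ s) ≫ inv (DerivedCategory.Q.map s) ≫ DerivedCategory.Q.map φ by simp]
    exact (Approx.of_isIso _ m).comp hf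
  exact (good_congr_map hA hP (r ≫ s) (Approx.of_isIso _ m) hq).symm.trans (good_congr_map hA hQ (r ≫ φ) h2 hq)

theorem mono_tensor_of_flat (C : X.Modules) (hC : FlatMod.IsFlat C) {M N : X.Modules} (g : M ⟶ N) [Mono g] :
    Mono ((DCoh.tensorRightMod C).map g) := by
  apply Preadditive.mono_of_isZero_kernel
  rw [Groth.L00.Stk.isZero_iff]
  intro x
  let T := tensorRight ((Groth.L00.Stk.F X x).obj C)
  haveI : Module.Flat (X.presheaf.stalk x) ((Groth.L00.Stk.F X x).obj C) := hC x
  haveI : Mono (T.map ((Groth.L00.Stk.F X x).map g)) := (ModuleCat.mono_iff_injective _).2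
    (Module.Flat.rTensor_preserves_injective_linearMap _ ((ModuleCat.mono_iff_injective _).1 inferInstance))
  haveI : Mono ((Groth.L00.Stk.F X x).map ((DCoh.tensorRightMod C).map g)) :=
    ((MorphismProperty.monomorphisms _).arrow_mk_iso_iff (Arrow.isoMk
      ((Groth.L00.TorAmp.stalkTensorIso C x).app M) ((Groth.L00.TorAmp.stalkTensorIso C x).app N)
      ((Groth.L00.TorAmp.stalkTensorIso C x).hom.naturality g).symm)).2 (show Mono (T.map _) from inferInstance)
  exact (isZero_kernel_of_mono _).of_iso (PreservesKernel.iso (Groth.L00.Stk.F X x) _)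

/-- flat terms and a flat cokernel of the differential into degree `q` -/
theorem good_of_flat (P : CochainComplex X.Modules ℤ) (q : ℤ) (hf : FlatMod.IsFlat (P.X (q + 1)))
    (hc : FlatMod.IsFlat (cokernel (P.d (q - 1) q))) : Good P q := fun M N g hg => by
  haveI := hg
  have braid : ∀ C : X.Modules, FlatMod.IsFlat C → Mono (((DCoh.tensorBi (X := X)).obj C).map g) := fun C hC =>
    ((MorphismProperty.monomorphisms X.Modules).arrow_mk_iso_iff
      (Arrow.isoMk ((Groth.L00.DerivedApi.tensorRightModIso C).app M) ((Groth.L00.DerivedApi.tensorRightModIso C).app N)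
        ((Groth.L00.DerivedApi.tensorRightModIso C).hom.naturality g).symm)).1 (mono_tensor_of_flat C hC g)
  haveI : Mono (((Φ P).map g).f (q + 1)) := braid _ hf
  rw [SiteFlat.mono_homologyMap_iff ((Φ P).map g) q, SiteFlat.mono_opcycles_iff (O := X.sheaf) P g q]
  refine mono_tensor_of_flat (P.opcycles q) (Groth.L00.KFlat.isFlat_of_iso ?_ hc) g
  exact ((P.opcyclesIsCokernel (q - 1) q (by simp)).coconePointUniqueUpToIso (colimit.isColimit _)).symm

variable {U : Scheme.{u}} (j : U ⟶ X) [IsOpenImmersion j]

/-- restriction commutes with `Φ` -/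
def restrictΦIso (E : CochainComplex X.Modules ℤ) (M : X.Modules) :
    (Φ (((Scheme.Modules.restrictFunctor j).mapHomologicalComplex (ComplexShape.up ℤ)).obj E)).obj (M.restrict j) ≅
      ((Scheme.Modules.restrictFunctor j).mapHomologicalComplex (ComplexShape.up ℤ)).obj ((Φ E).obj M) :=
  HomologicalComplex.Hom.isoOfComponents (fun n => (tensorRightRestrictIso j M).app (E.X n))
    (fun a b _ => ((tensorRightRestrictIso j M).hom.naturality (E.d a b)).symm)

theorem restrictΦIso_hom_f (E : CochainComplex X.Modules ℤ) (M : X.Modules) (n : ℤ) :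
    (restrictΦIso j E M).hom.f n = (tensorRestrict j (E.X n) M).hom := rfl

theorem tensorRightRestrictIso_natural (A : X.Modules) {M N : X.Modules} (g : M ⟶ N) :
    ((DCoh.tensorBi (X := U)).obj ((Scheme.Modules.restrictFunctor j).obj A)).map
        ((Scheme.Modules.restrictFunctor j).map g) ≫ (tensorRestrict j A N).hom =
      (tensorRestrict j A M).hom ≫
        (Scheme.Modules.restrictFunctor j).map (((DCoh.tensorBi (X := X)).obj A).map g) := by
  have e : ∀ {Z : Scheme.{u}} (A : Z.Modules) {B B' : Z.Modules} (φ : B ⟶ B'),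
      ((DCoh.tensorBi (X := Z)).obj A).map φ = tensorMap (𝟙 A) φ := fun A _ _ φ => by
    refine congrArg (shf _).map ?_
    rw [CategoryTheory.Functor.map_id]
    exact (MonoidalCategory.id_tensorHom _ _).symm
  rw [e, e, ← tensorRestrict_natural j (𝟙 A) g, CategoryTheory.Functor.map_id]

theorem restrictΦIso_natural (E : CochainComplex X.Modules ℤ) {M N : X.Modules} (g : M ⟶ N) :
    (Φ (((Scheme.Modules.restrictFunctor j).mapHomologicalComplex (ComplexShape.up ℤ)).obj E)).map
        ((Scheme.Modules.restrictFunctor j).map g) ≫ (restrictΦIso j E N).hom =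
      (restrictΦIso j E M).hom ≫
        ((Scheme.Modules.restrictFunctor j).mapHomologicalComplex (ComplexShape.up ℤ)).map ((Φ E).map g) := by
  apply HomologicalComplex.hom_ext
  intro n
  rw [HomologicalComplex.comp_f, HomologicalComplex.comp_f, Functor.mapHomologicalComplex_map_f,
    Φ_map_f, Φ_map_f, restrictΦIso_hom_f, restrictΦIso_hom_f]
  exact tensorRightRestrictIso_natural j (E.X n) g

theorem mono_restrict_homologyMap (E : CochainComplex X.Modules ℤ) (q : ℤ)
    (h : Good (((Scheme.Modules.restrictFunctor j).mapHomologicalComplex (ComplexShape.up ℤ)).obj E) q)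
    {M N : X.Modules} (g : M ⟶ N) [Mono g] :
    Mono ((Scheme.Modules.restrictFunctor j).map (homologyMap ((Φ E).map g) q)) := by
  let R := Scheme.Modules.restrictFunctor j
  let RC := R.mapHomologicalComplex (ComplexShape.up ℤ)
  haveI : Mono (homologyMap (RC.map ((Φ E).map g)) q) :=
    ((MorphismProperty.monomorphisms U.Modules).arrow_mk_iso_iff
      (Arrow.isoMk ((homologyFunctor _ _ q).mapIso (restrictΦIso j E M)) ((homologyFunctor _ _ q).mapIso (restrictΦIso j E N))
        (by
          simp only [Arrow.mk_hom, Functor.mapIso_hom, homologyFunctor_map]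
          rw [← homologyMap_comp, ← homologyMap_comp, restrictΦIso_natural]))).1 (h _ _ (R.map g) inferInstance)
  exact ((MorphismProperty.monomorphisms U.Modules).arrow_mk_iso_iff
    (Arrow.isoMk ((((Φ E).obj M).sc q).mapHomologyIso R) ((((Φ E).obj N).sc q).mapHomologyIso R)
      (ShortComplex.mapHomologyIso_hom_naturality ((shortComplexFunctor X.Modules (ComplexShape.up ℤ) q).map ((Φ E).map g)) R).symm)).1
    (show Mono (homologyMap (RC.map ((Φ E).map g)) q) from inferInstance)

/-- the property is local -/
theorem good_of_local (E : CochainComplex X.Modules ℤ) (q : ℤ)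
    (h : ∀ x : X, ∃ (U : Scheme.{u}) (j : U ⟶ X) (_ : IsOpenImmersion j), x ∈ j.opensRange ∧
      Good (((Scheme.Modules.restrictFunctor j).mapHomologicalComplex (ComplexShape.up ℤ)).obj E) q) :
    Good E q := fun M N g hg => by
  choose V k hk hx hG using h
  exact Groth.L21.Mod.mono_of_restrict k (fun x => ⟨x, hx x⟩) _
    fun x => mono_restrict_homologyMap (k x) E q (hG x) g

end Groth.L10.HExact.SchemeExact
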