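import Groth.Agent.L29.DCoh.CokerLocFree
import Groth.Agent.L29.DCoh.FibreLocus

/-!
Cokernels of maps of free modules of constant rank on reduced schemes are locally free.
-/

set_option autoImplicit false
set_option linter.style.haveILetI false
set_option backward.defeqAttrib.useBackward true
set_option backward.isDefEq.respectTransparency false
set_option backward.isDefEq.respectTransparency.types false

universe u

open CategoryTheory CategoryTheory.Limits AlgebraicGeometry Opposite

attribute [local instance] HasDerivedCategory.standard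

noncomputable section

namespace Groth.L10.HExact.Reduced

open Groth.L29.DC Groth.L29.DC.Fib

variable {X : Scheme.{u}}

/-- a scaled pseudo-inverse at a point gives a pseudo-inverse near it -/
theorem exists_pseudo_of_minor {n m r : ℕ} (φ : FlatMod.freeMod X n ⟶ FlatMod.freeMod X m) (x : X)
    (s : Fin r → Fin m) (t : Fin r → Fin n)
    (hcu : IsUnit (ev (RingHom.id (X.presheaf.stalk x)) ((mat φ).submatrix s t).det))
    (hid : let A := (mat φ).map (ev (RingHom.id (X.presheaf.stalk x)))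
      A.submatrix id t * (A.submatrix s t).adjugate * A.submatrix s id = (A.submatrix s t).det • A) :
    ∃ (W : X.Opens) (h : (Scheme.Modules.restrictFunctor W.ι).obj (FlatMod.freeMod X m) ⟶
        (Scheme.Modules.restrictFunctor W.ι).obj (FlatMod.freeMod X n)),
      x ∈ W ∧ (Scheme.Modules.restrictFunctor W.ι).map φ ≫ h ≫ (Scheme.Modules.restrictFunctor W.ι).map φ =
        (Scheme.Modules.restrictFunctor W.ι).map φ := by
  classical
  let ρ : X.presheaf.stalk x →+* X.presheaf.stalk x := RingHom.id _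
  let A := (mat φ).map (ev ρ)
  let c := ((mat φ).submatrix s t).det
  let Pt : Matrix (Fin n) (Fin _) Γ(X, ⊤) := (1 : Matrix (Fin n) (Fin n) Γ(X, ⊤)).submatrix id t
  let Ps : Matrix (Fin _) (Fin m) Γ(X, ⊤) := (1 : Matrix (Fin m) (Fin m) Γ(X, ⊤)).submatrix s id
  let h := ofMat (Pt * ((mat φ).submatrix s t).adjugate * Ps)
  let sc : ∀ k, FlatMod.freeMod X k ⟶ FlatMod.freeMod X k := fun k => ofMat (c • (1 : Matrix (Fin k) (Fin k) Γ(X, ⊤)))
  have hevsc : ∀ k, (mat (sc k)).map (ev ρ) = ev ρ c • (1 : Matrix (Fin k) (Fin k) (X.presheaf.stalk x)) := fun k => by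
    rw [mat_ofMat]; ext i j; by_cases hij : i = j <;> simp [Matrix.one_apply, hij]
  have hc : ev ρ c = (A.submatrix s t).det := by
    rw [RingHom.map_det, RingHom.mapMatrix_apply, ← Matrix.submatrix_map]
  have hPt : A * Pt.map (ev ρ) = A.submatrix id t := by
    ext a b
    simp [Pt, Matrix.mul_apply, Matrix.one_apply, apply_ite, Matrix.submatrix]
  have hPs : Ps.map (ev ρ) * A = A.submatrix s id := by
    ext a b
    simp [Ps, Matrix.mul_apply, Matrix.one_apply, apply_ite, Matrix.submatrix]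
  have hAh : A * (mat h).map (ev ρ) * A = ev ρ c • A := by
    rw [hc, ← hid, mat_ofMat, Matrix.map_mul, Matrix.map_mul, ← RingHom.mapMatrix_apply (M := ((mat φ).submatrix s t).adjugate),
      RingHom.map_adjugate, RingHom.mapMatrix_apply, ← Matrix.submatrix_map]
    rw [← hPt, ← hPs]
    simp only [Matrix.mul_assoc]
    rfl
  obtain ⟨W₁, hx₁, hW₁⟩ := exists_zero_nhd (Iso.refl _) (Iso.refl _) (φ ≫ h ≫ φ + -(φ ≫ sc m)) x fun i j => by
    simp only [Iso.refl_inv, Iso.refl_hom, Category.id_comp, Category.comp_id]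
    refine congrFun (congrFun (eq_zero_of_add_eq (ρ := ρ) (φ ≫ h ≫ φ + -(φ ≫ sc m)) (φ ≫ sc m) (φ ≫ h ≫ φ) (by abel) ?_) i) j
    rw [ev_mat_comp, ev_mat_comp, ev_mat_comp, hevsc, Matrix.smul_mul, Matrix.one_mul]
    exact hAh
  obtain ⟨W₃, hx₃, hW₃⟩ := exists_zero_nhd (Iso.refl _) (Iso.refl _) (φ ≫ sc m + -(sc n ≫ φ)) x fun i j => by
    simp only [Iso.refl_inv, Iso.refl_hom, Category.id_comp, Category.comp_id]
    refine congrFun (congrFun (eq_zero_of_add_eq (ρ := ρ) (φ ≫ sc m + -(sc n ≫ φ)) (sc n ≫ φ) (φ ≫ sc m) (by abel) ?_) i) j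
    rw [ev_mat_comp, ev_mat_comp, hevsc, hevsc, Matrix.smul_mul, Matrix.one_mul, Matrix.mul_smul, Matrix.mul_one]
  obtain ⟨W₂, hx₂, hW₂⟩ : ∃ W : X.Opens, x ∈ W ∧ ∀ k, k = n ∨ k = m → IsIso ((Scheme.Modules.restrictFunctor W.ι).map (sc k)) := by
    refine ⟨X.basicOpen c, (Scheme.mem_basicOpen_top _ _ _).2 hcu, fun k _ => ?_⟩
    have hle : X.basicOpen c ≤ X.basicOpen (mat (𝟙 _ ≫ sc k ≫ 𝟙 _)).det := by
      rw [Category.id_comp, Category.comp_id, mat_ofMat, Matrix.det_smul, Matrix.det_one, mul_one]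
      intro y hy
      rw [Scheme.mem_basicOpen_top] at hy ⊢
      rw [map_pow]
      exact hy.pow _
    exact isIso_restrict_of_le hle _ (isIso_restrict_of_det (Iso.refl _) (Iso.refl _) (sc k))
  let W := W₁ ⊓ W₃ ⊓ W₂
  let R := Scheme.Modules.restrictFunctor W.ι
  haveI := isIso_restrict_of_le (inf_le_right : W ≤ W₂) _ (hW₂ m (Or.inr rfl))
  haveI := isIso_restrict_of_le (inf_le_right : W ≤ W₂) _ (hW₂ n (Or.inl rfl))
  have hz : R.map φ ≫ R.map h ≫ R.map φ = R.map φ ≫ R.map (sc m) := by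
    have h0 : R.map (φ ≫ h ≫ φ + -(φ ≫ sc m)) = 0 :=
      restrict_eq_zero_of_le ((inf_le_left : W ≤ W₁ ⊓ W₃).trans inf_le_left) _ hW₁
    simpa [Functor.map_add, Functor.map_neg, add_neg_eq_zero] using h0
  have hcomm : R.map φ ≫ R.map (sc m) = R.map (sc n) ≫ R.map φ := by
    have h0 : R.map (φ ≫ sc m + -(sc n ≫ φ)) = 0 :=
      restrict_eq_zero_of_le ((inf_le_left : W ≤ W₁ ⊓ W₃).trans inf_le_right) _ hW₃
    simpa [Functor.map_add, Functor.map_neg, add_neg_eq_zero] using h0
  refine ⟨W, inv (R.map (sc m)) ≫ R.map h, ⟨⟨hx₁, hx₃⟩, hx₂⟩, ?_⟩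
  have h3 : R.map φ ≫ inv (R.map (sc m)) = inv (R.map (sc n)) ≫ R.map φ := by
    rw [IsIso.comp_inv_eq, Category.assoc, hcomm, IsIso.inv_hom_id_assoc]
  change R.map φ ≫ (inv (R.map (sc m)) ≫ R.map h) ≫ R.map φ = R.map φ
  rw [Category.assoc, reassoc_of% h3, hz, hcomm, IsIso.inv_hom_id_assoc]

/-- constant rank near a point of a reduced scheme -/
theorem isFinLocFree_cokernel_of_rank [IsReduced X] {n m : ℕ} (φ : FlatMod.freeMod X n ⟶ FlatMod.freeMod X m)
    (h : ∀ x : X, ∃ O : X.Opens, x ∈ O ∧ ∀ v ∈ O, rk (X.residue v).hom φ = rk (X.residue x).hom φ) :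
    FlatMod.IsFinLocFree (cokernel φ) := by
  classical
  refine isFinLocFree_of_local fun x => ?_
  obtain ⟨O, hxO, hO⟩ := h x
  haveI : ∀ v : X, IsLocalHom (X.residue v).hom := fun v =>
    inferInstanceAs (IsLocalHom (IsLocalRing.residue (X.presheaf.stalk v)))
  let M := mat φ
  obtain ⟨s, t, hst⟩ := Groth.L00.RankSemi.exists_submatrix_det_ne_zero (M.map (ev (X.residue x).hom))
  let c := (M.submatrix s t).det
  have hxc : x ∈ X.basicOpen c := (ev_ne_zero_iff (X.residue x).hom c).1 (by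
    rw [RingHom.map_det, RingHom.mapMatrix_apply, ← Matrix.submatrix_map]; exact hst)
  let D := c • M - M.submatrix id t * (M.submatrix s t).adjugate * M.submatrix s id
  have hD : ∀ v ∈ O, v ∈ X.basicOpen c → D.map (ev (X.residue v).hom) = 0 := fun v hv hvc => by
    let g := ev (X.residue v).hom
    have hr : (M.map g).rank = (M.map (ev (X.residue x).hom)).rank := by
      have := hO v hv
      rwa [rk_free, rk_free] at this
    have hne : ((M.map g).submatrix s t).det ≠ 0 := by
      have := (ev_ne_zero_iff (X.residue v).hom c).2 hvc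
      rwa [RingHom.map_det, RingHom.mapMatrix_apply, ← Matrix.submatrix_map] at this
    have key : ∀ (r : ℕ) (hr : (M.map g).rank = r) (s : Fin r → Fin m) (t : Fin r → Fin n),
        ((M.map g).submatrix s t).det ≠ 0 →
          (M.map g).submatrix id t * ((M.map g).submatrix s t).adjugate * (M.map g).submatrix s id =
            ((M.map g).submatrix s t).det • M.map g := by
      rintro _ rfl s t h
      exact Split.submatrix_adjugate_mul _ s t h
    have hcv : g c = ((M.map g).submatrix s t).det := by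
      rw [RingHom.map_det, RingHom.mapMatrix_apply, ← Matrix.submatrix_map]
    change D.map g = 0
    rw [Matrix.map_sub _ (map_sub g), Matrix.map_mul, Matrix.map_mul, ← RingHom.mapMatrix_apply (M := (M.submatrix s t).adjugate),
      RingHom.map_adjugate, RingHom.mapMatrix_apply, ← Matrix.submatrix_map, ← Matrix.submatrix_map,
      ← Matrix.submatrix_map, key _ hr s t hne, ← hcv, sub_eq_zero]
    ext i j
    simp
  have hz : D.map (ev (RingHom.id (X.presheaf.stalk x))) = 0 := by
    ext i j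
    change X.presheaf.germ ⊤ x trivial (D i j) = 0
    let V : X.Opens := O ⊓ X.basicOpen c
    have hV : X.presheaf.map (homOfLE (le_top : V ≤ ⊤)).op (D i j) = 0 := by
      rw [← basicOpen_eq_bot_iff, Scheme.basicOpen_res, eq_bot_iff]
      rintro v ⟨⟨hv, hvc⟩, hva⟩
      exact ((ev_ne_zero_iff (X.residue v).hom _).2 hva (congrFun (congrFun (hD v hv hvc) i) j)).elim
    rw [← TopCat.Presheaf.germ_res_apply X.presheaf (homOfLE (le_top : V ≤ ⊤)) x ⟨hxO, hxc⟩, hV, map_zero]
  obtain ⟨W, k, hxW, hk⟩ := exists_pseudo_of_minor φ x s t ((Scheme.mem_basicOpen_top _ _ _).1 hxc) (by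
    let g := ev (RingHom.id (X.presheaf.stalk x))
    change (M.map g).submatrix id t * ((M.map g).submatrix s t).adjugate * (M.map g).submatrix s id =
      ((M.map g).submatrix s t).det • M.map g
    have h1 : D.map g = 0 := hz
    rw [Matrix.map_sub _ (map_sub g), Matrix.map_mul, Matrix.map_mul, ← RingHom.mapMatrix_apply (M := (M.submatrix s t).adjugate),
      RingHom.map_adjugate, RingHom.mapMatrix_apply, ← Matrix.submatrix_map, ← Matrix.submatrix_map,
      ← Matrix.submatrix_map, sub_eq_zero] at h1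
    have hcg : g c = ((M.map g).submatrix s t).det := by
      rw [RingHom.map_det, RingHom.mapMatrix_apply, ← Matrix.submatrix_map]
    rw [← h1, ← hcg]
    ext i j
    simp)
  obtain ⟨K, ⟨i⟩⟩ := cokernel_biprod_of_pseudo _ k hk
  exact ⟨W, hxW, Groth.L29.LocFree.of_iso (PreservesCokernel.iso (Scheme.Modules.restrictFunctor W.ι) φ).symm
    (isFinLocFree_of_biprod (i ≪≫ (Scheme.Modules.restrictFunctorIsoPullback W.ι).app _ ≪≫
      Groth.L29.LocFree.pullbackFreeIso W.ι m))⟩

/-- the same through the residue points of a bigger scheme -/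
theorem isFlat_cokernel_of_rkp {U : Scheme.{u}} [IsReduced X] (j : U ⟶ X) [IsOpenImmersion j] {M N : U.Modules}
    {n m : ℕ} (e : M ≅ FlatMod.freeMod U n) (e' : N ≅ FlatMod.freeMod U m) (φ : M ⟶ N)
    (h : ∀ u : U, ∃ O : U.Opens, u ∈ O ∧ ∀ v ∈ O, rkp j φ v = rkp j φ u) :
    FlatMod.IsFlat (cokernel φ) := by
  haveI : IsReduced U := isReduced_of_isOpenImmersion j
  haveI : ∀ v : U, IsLocalHom (U.residue v).hom := fun v =>
    inferInstanceAs (IsLocalHom (IsLocalRing.residue (U.presheaf.stalk v)))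
  have hrk : ∀ v : U, rk (U.residue v).hom (e.inv ≫ φ ≫ e'.hom) = rkp j φ v := fun v => by
    rw [rk_congr]
    letI := stalkField (pt (j v)) (isField_stalk_pt _)
    exact rk_eq_of_point (lpt_pt j v).symm (U.residue v).hom
      (Groth.L00.PullStalk.φ (lpt j v) (pt (j v))) e e' φ
  have hf : FlatMod.IsFinLocFree (cokernel (e.inv ≫ φ ≫ e'.hom)) := isFinLocFree_cokernel_of_rank _ fun u => by
    obtain ⟨O, hu, hO⟩ := h u
    exact ⟨O, hu, fun v hv => by rw [hrk, hrk, hO v hv]⟩
  exact Groth.L00.KFlat.isFlat_of_iso (cokernel.mapIso φ (e.inv ≫ φ ≫ e'.hom) e e' (by simp)).symm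
    (fun u => isFlat_of_isFinLocFree hf u)

end Groth.L10.HExact.Reduced
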