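import Groth.Agent.L10.HExact.SchemeExact
import Groth.Agent.L10.HExact.Reduced
import Groth.Agent.L29.DCoh.RHomBound
import Groth.Agent.L29.BC.LTExact

/-!
Locally constant fibre dimension gives exactness of `M ↦ H^p(M ⊗^L E)` on reduced schemes.
-/

set_option autoImplicit false
set_option linter.style.haveILetI false
set_option backward.defeqAttrib.useBackward true
set_option backward.isDefEq.respectTransparency false
set_option backward.isDefEq.respectTransparency.types false

universe u

open CategoryTheory CategoryTheory.Limits AlgebraicGeometry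

attribute [local instance] HasDerivedCategory.standard

noncomputable section

namespace Groth.L10.HExact.BettiExact

open Groth.L29.DC Groth.L29.DC.Fib Groth.L10.HExact.SchemeExact

variable {X : Scheme.{u}}

theorem good_of_betti [IsReduced X] [∀ x : X, DCoh.HasLpull (X.fromSpecResidueField x)]
    (F : CochainComplex X.Modules ℤ) (hF : DCoh.IsKFlat F) (E : DCoh.D X) (e : DCoh.toD X F ≅ E) (p : ℤ)
    (hE : DCoh.IsPseudoCoherentD (p - 1) E) (hc : IsLocallyConstant (fun x : X => PerfD.betti E x p)) :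
    Good F p ∧ Good F (p + 1) := by
  suffices h : ∀ q, (q = p ∨ q = p + 1) → Good F q from ⟨h p (Or.inl rfl), h _ (Or.inr rfl)⟩
  intro q hq
  refine good_of_local F q fun x => ?_
  obtain ⟨U, j, _, P, n, α, hx, hP, hα, he⟩ := exists_model_of_pc E (p - 1) hE x
  refine ⟨U, j, inferInstance, hx, ?_⟩
  let R := Scheme.Modules.restrictFunctor j
  let f : DerivedCategory.Q.obj P ⟶ DerivedCategory.Q.obj ((R.mapHomologicalComplex (ComplexShape.up ℤ)).obj F) :=
    α ≫ (DCoh.restrictD j).map e.inv ≫ (R.mapDerivedCategoryFactors.app F).hom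
  have hf : Approx f (p - 1) := hα.comp (Approx.of_isIso _ _)
  refine (good_congr (isKFlat_of_isStrictlyPerfect hP) (isKFlat_restrict j hF) f (m := p - 1) hf (show p - 1 < q by omega)).1 ?_
  have hr : ∀ u : U, ∃ O : U.Opens, u ∈ O ∧ ∀ v ∈ O,
      rkp j (P.d (p - 1) p) v = rkp j (P.d (p - 1) p) u ∧ rkp j (P.d p (p + 1)) v = rkp j (P.d p (p + 1)) u := by
    intro u
    obtain ⟨O₁, hu₁, h₁⟩ := exists_open_rkp_le j (he (p - 1)).some (he p).some (P.d (p - 1) p) u
    obtain ⟨O₂, hu₂, h₂⟩ := exists_open_rkp_le j (he p).some (he (p + 1)).some (P.d p (p + 1)) u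
    obtain ⟨S, hS, huS, hcS⟩ := (IsLocallyConstant.iff_exists_open _).1 hc (j u)
    refine ⟨O₁ ⊓ O₂ ⊓ j ⁻¹ᵁ ⟨S, hS⟩, ⟨⟨hu₁, hu₂⟩, huS⟩, ?_⟩
    rintro v ⟨⟨hv₁, hv₂⟩, hvS⟩
    have := betti_add_rkp j E hP n (fun i => (he i).some) hα u (show p - 1 < p by omega)
    have := betti_add_rkp j E hP n (fun i => (he i).some) hα v (show p - 1 < p by omega)
    have := hcS _ hvS
    have := h₁ v hv₁
    have := h₂ v hv₂
    omega
  refine good_of_flat P q (isFlat_of_isFinLocFree (hP.2 _)) ?_
  refine Reduced.isFlat_cokernel_of_rkp j (he (q - 1)).some (he q).some _ fun u => ?_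
  obtain ⟨O, hu, hO⟩ := hr u
  refine ⟨O, hu, fun v hv => ?_⟩
  rcases hq with rfl | rfl
  · exact (hO v hv).1
  · rw [show p + 1 - 1 = p by omega]
    exact (hO v hv).2

/-- the two degrees give exactness -/
theorem exact_of_good (F : CochainComplex X.Modules ℤ) [DCoh.HasLTensorCx F]
    (F' : CochainComplex X.Modules ℤ) (hF' : DCoh.IsKFlat F') (e : DCoh.toD X F' ≅ DCoh.toD X F)
    (p : ℤ) (h₀ : Good F' p) (h₁ : Good F' (p + 1)) :
    PreservesFiniteLimits (DerivedCategory.singleFunctor X.Modules 0 ⋙ DCoh.LTensorCx F ⋙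
        DerivedCategory.homologyFunctor X.Modules p) ∧
      PreservesFiniteColimits (DerivedCategory.singleFunctor X.Modules 0 ⋙ DCoh.LTensorCx F ⋙
        DerivedCategory.homologyFunctor X.Modules p) := by
  haveI := Groth.L00.KFlat.hasLTensorCx F'
  haveI : ModSite.HasLTensorCx (O := X.sheaf) F' := inferInstanceAs (DCoh.HasLTensorCx F')
  obtain ⟨t⟩ := RHom.nonempty_lt_iso e
  let S := DerivedCategory.singleFunctor X.Modules 0
  let H := fun q : ℤ => DerivedCategory.homologyFunctor X.Modules q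
  haveI : (DCoh.LTensorCx F').Additive := Site.additive (O := X.sheaf) F'
  let G := S ⋙ DCoh.LTensorCx F'
  have hG : ∀ T : ShortComplex X.Modules, T.ShortExact →
      ∃ k, Pretriangulated.Triangle.mk (G.map T.f) (G.map T.g) k ∈ Pretriangulated.distinguishedTriangles :=
    fun T hT => exists_triangle (DCoh.LTensorCx F') (Groth.L29.BC.LTExact.exists_distinguished F')
      hT.singleTriangle hT.singleTriangle_distinguished
  have lim : ∀ q, Good F' q → PreservesFiniteLimits (G ⋙ H q) := fun q hgood => by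
    refine ((G ⋙ H q).preservesFiniteLimits_tfae.out 3 0 :).2 fun T hT => ?_
    obtain ⟨k, hk⟩ := hG T hT
    obtain ⟨i⟩ := SiteFlat.nonempty_iso (O := X.sheaf) F' hF' q
    refine ⟨DerivedCategory.HomologySequence.exact₂ _ hk q, ?_⟩
    exact ((MorphismProperty.monomorphisms X.Modules).arrow_mk_iso_iff
      (Arrow.isoMk (i.app T.X₁) (i.app T.X₂) (i.hom.naturality T.f).symm)).2 (hgood _ _ T.f hT.mono_f)
  haveI := lim p h₀
  haveI : PreservesFiniteColimits (G ⋙ H p) := (iff_succ G hG p).2 (lim _ h₁)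
  let i : G ⋙ H p ≅ S ⋙ DCoh.LTensorCx F ⋙ H p :=
    Functor.associator _ _ _ ≪≫ Functor.isoWhiskerLeft S (Functor.isoWhiskerRight t _)
  exact ⟨preservesFiniteLimits_of_natIso i, preservesFiniteColimits_of_natIso i⟩

/-- exactness on all modules -/
theorem exact_of_betti [IsReduced X] [∀ x : X, DCoh.HasLpull (X.fromSpecResidueField x)]
    (F : CochainComplex X.Modules ℤ) [DCoh.HasLTensorCx F] (p : ℤ)
    (hE : DCoh.IsPseudoCoherentD (p - 1) (DCoh.toD X F))
    (hc : IsLocallyConstant (fun x : X => PerfD.betti (DCoh.toD X F) x p)) :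
    PreservesFiniteLimits (DerivedCategory.singleFunctor X.Modules 0 ⋙ DCoh.LTensorCx F ⋙
        DerivedCategory.homologyFunctor X.Modules p) ∧
      PreservesFiniteColimits (DerivedCategory.singleFunctor X.Modules 0 ⋙ DCoh.LTensorCx F ⋙
        DerivedCategory.homologyFunctor X.Modules p) := by
  obtain ⟨P, q, hP, -, hq, -⟩ := Groth.L00.KFlat.exists_resolution F
  haveI := (DerivedCategory.isIso_Q_map_iff_quasiIso _ q).2 hq
  let e : DCoh.toD X P ≅ DCoh.toD X F := asIso (DerivedCategory.Q.map q)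
  obtain ⟨h₀, h₁⟩ := good_of_betti P hP (DCoh.toD X F) e p hE hc
  exact exact_of_good F P hP e p h₀ h₁

end Groth.L10.HExact.BettiExact
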