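import Groth.Agent.L10.HExact.IdealTest
import Groth.Agent.L10.HExact.BettiExact
import Mathlib.AlgebraicGeometry.Noetherian

/-!
Exactness of `M ↦ H^p(M ⊗^L E)` on quasi-coherent modules forces local freeness and constant fibre dimension.
-/

set_option autoImplicit false
set_option linter.style.haveILetI false
set_option backward.defeqAttrib.useBackward true
set_option backward.isDefEq.respectTransparency false
set_option backward.isDefEq.respectTransparency.types false

universe u

open CategoryTheory CategoryTheory.Limits AlgebraicGeometry HomologicalComplex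

attribute [local instance] HasDerivedCategory.standard preservesBinaryBiproducts_of_preservesBinaryCoproducts

noncomputable section

namespace Groth.L10.HExact.Converse

open Groth.L29.DC Groth.L29.DC.Fib Groth.L10.HExact.SchemeExact Groth.L29.DC.TorTest

variable {X : Scheme.{u}}

/-- monomorphy on ideals, which are quasi-coherent when the scheme is quasi-separated -/
def Test (F : CochainComplex X.Modules ℤ) (q : ℤ) : Prop :=
  ∀ (M : X.Modules) (g : M ⟶ Coh.structureModule X), (QuasiSeparatedSpace X → Coh.IsQCoh M) → Mono g →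
    Mono (homologyMap ((Φ F).map g) q)

theorem mono_iff_map {P Q : CochainComplex X.Modules ℤ} (hP : DCoh.IsKFlat P) (hQ : DCoh.IsKFlat Q)
    (b : P ⟶ Q) {m : ℤ} (hb : Approx (DerivedCategory.Q.map b) m) {q : ℤ} (hq : m < q) {M N : X.Modules} (g : M ⟶ N) :
    Mono (homologyMap ((Φ P).map g) q) ↔ Mono (homologyMap ((Φ Q).map g) q) := by
  let c : ∀ M : X.Modules, (Φ P).obj M ⟶ (Φ Q).obj M := fun M =>
    ((DCoh.tensorRightMod M).mapHomologicalComplex (ComplexShape.up ℤ)).map b
  have hc : ∀ M, IsIso (homologyMap (c M) q) := fun M => by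
    haveI := Groth.L00.DerivedApi.hasLTensorMod M
    have hG := Groth.L00.DerivedApi.acyclicKFlat_tensorMod M
    have h2 : Approx (DerivedCategory.Q.map (c M)) m :=
      approx_congr (Groth.L00.DerivedApi.objIso hG P hP) (Groth.L00.DerivedApi.objIso hG Q hQ)
        (objIso_natural hG hP hQ b) (Approx.map_LG hG hb)
    haveI : IsIso ((DerivedCategory.homologyFunctor X.Modules q).map (DerivedCategory.Q.map (c M))) := h2.1 q hq
    exact (NatIso.isIso_map_iff (DerivedCategory.homologyFunctorFactors X.Modules q) (c M)).1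
      (show IsIso ((DerivedCategory.Q ⋙ DerivedCategory.homologyFunctor X.Modules q).map (c M)) from this)
  have hsq : (Φ P).map g ≫ c N = c M ≫ (Φ Q).map g := by
    ext n : 1
    exact (((DCoh.tensorBi (X := X)).map (b.f n)).naturality g)
  haveI := hc M
  haveI := hc N
  exact (MorphismProperty.monomorphisms X.Modules).arrow_mk_iso_iff
    (Arrow.isoMk (asIso (homologyMap (c M) q)) (asIso (homologyMap (c N) q)) (by
      simp only [Arrow.mk_hom, asIso_hom]
      rw [← homologyMap_comp, ← homologyMap_comp, hsq]))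

theorem mono_iff_congr {P Q : CochainComplex X.Modules ℤ} (hP : DCoh.IsKFlat P) (hQ : DCoh.IsKFlat Q)
    (f : DerivedCategory.Q.obj P ⟶ DerivedCategory.Q.obj Q) {m : ℤ} (hf : Approx f m) {q : ℤ} (hq : m < q)
    {M N : X.Modules} (g : M ⟶ N) :
    Mono (homologyMap ((Φ P).map g) q) ↔ Mono (homologyMap ((Φ Q).map g) q) := by
  obtain ⟨R, s, hs, φ, rfl⟩ := DerivedCategory.right_fac f
  obtain ⟨A, r, hA, -, hr, -⟩ := Groth.L00.KFlat.exists_resolution R
  haveI := (DerivedCategory.isIso_Q_map_iff_quasiIso _ r).2 hr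
  haveI : IsIso (DerivedCategory.Q.map (r ≫ s)) := by rw [Functor.map_comp]; infer_instance
  have h2 : Approx (DerivedCategory.Q.map (r ≫ φ)) m := by
    rw [show DerivedCategory.Q.map (r ≫ φ) =
      DerivedCategory.Q.map (r ≫ s) ≫ inv (DerivedCategory.Q.map s) ≫ DerivedCategory.Q.map φ by simp]
    exact (Approx.of_isIso _ m).comp hf
  exact (mono_iff_map hA hP (r ≫ s) (Approx.of_isIso _ m) hq g).symm.trans (mono_iff_map hA hQ (r ≫ φ) h2 hq g)

variable {U : Scheme.{u}} (j : U ⟶ X) [IsOpenImmersion j]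

theorem mono_homologyMap_restrict (E : CochainComplex X.Modules ℤ) (q : ℤ) {M N : X.Modules} (g : M ⟶ N)
    (h : Mono (homologyMap ((Φ E).map g) q)) :
    Mono (homologyMap ((Φ (((Scheme.Modules.restrictFunctor j).mapHomologicalComplex (ComplexShape.up ℤ)).obj E)).map
      ((Scheme.Modules.restrictFunctor j).map g)) q) := by
  haveI := h
  let R := Scheme.Modules.restrictFunctor j
  let RC := R.mapHomologicalComplex (ComplexShape.up ℤ)
  haveI : Mono (homologyMap (RC.map ((Φ E).map g)) q) :=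
    ((MorphismProperty.monomorphisms U.Modules).arrow_mk_iso_iff
      (Arrow.isoMk ((((Φ E).obj M).sc q).mapHomologyIso R) ((((Φ E).obj N).sc q).mapHomologyIso R)
        (ShortComplex.mapHomologyIso_hom_naturality
          ((shortComplexFunctor X.Modules (ComplexShape.up ℤ) q).map ((Φ E).map g)) R).symm)).2
      (show Mono (R.map (homologyMap ((Φ E).map g) q)) from inferInstance)
  exact ((MorphismProperty.monomorphisms U.Modules).arrow_mk_iso_iff
    (Arrow.isoMk ((homologyFunctor _ _ q).mapIso (restrictΦIso j E M)) ((homologyFunctor _ _ q).mapIso (restrictΦIso j E N))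
      (by
        simp only [Arrow.mk_hom, Functor.mapIso_hom, homologyFunctor_map]
        rw [← homologyMap_comp, ← homologyMap_comp, restrictΦIso_natural]))).2
    (show Mono (homologyMap (RC.map ((Φ E).map g)) q) from inferInstance)

/-- flat cokernels of the differentials of affine models -/
theorem isFlat_opcycles [IsAffine U] (F : CochainComplex X.Modules ℤ)
    (hF : DCoh.IsKFlat F) (E : DCoh.D X) (e : DCoh.toD X F ≅ E) (P : CochainComplex U.Modules ℤ)
    (hP : DCoh.IsStrictlyPerfect P) (α : DerivedCategory.Q.obj P ⟶ (DCoh.restrictD j).obj E) {m : ℤ}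
    (hα : Approx α m) {q : ℤ} (hq : m < q) (ht : Test F q) : FlatMod.IsFlat (P.opcycles q) := fun u => by
  refine IdealTest.flat_stalk_of_ideals j u (P.opcycles q) fun M g hM hg => ?_
  let R := Scheme.Modules.restrictFunctor j
  let f : DerivedCategory.Q.obj P ⟶ DerivedCategory.Q.obj ((R.mapHomologicalComplex (ComplexShape.up ℤ)).obj F) :=
    α ≫ (DCoh.restrictD j).map e.inv ≫ (R.mapDerivedCategoryFactors.app F).hom
  have hf : Approx f m := hα.comp (Approx.of_isIso _ _)
  have h1 := (mono_iff_congr (isKFlat_of_isStrictlyPerfect hP) (isKFlat_restrict j hF) f hf hq (R.map g)).2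
    (mono_homologyMap_restrict j F q g (ht M g (fun _ => hM (QuasiCompact.of_comp j (terminal.from X)) inferInstance) hg))
  haveI := hg
  haveI : Mono (((Φ P).map (R.map g)).f (q + 1)) :=
    ((MorphismProperty.monomorphisms U.Modules).arrow_mk_iso_iff
      (Arrow.isoMk ((Groth.L00.DerivedApi.tensorRightModIso (P.X (q + 1))).app _)
        ((Groth.L00.DerivedApi.tensorRightModIso (P.X (q + 1))).app _)
        ((Groth.L00.DerivedApi.tensorRightModIso (P.X (q + 1))).hom.naturality (R.map g)).symm)).1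
      (mono_tensor_of_flat _ (isFlat_of_isFinLocFree (hP.2 _)) (R.map g))
  exact (SiteFlat.mono_opcycles_iff (O := U.sheaf) P (R.map g) q).1
    ((SiteFlat.mono_homologyMap_iff ((Φ P).map (R.map g)) q).1 h1)

/-- restricting a model -/
def restrictModel {V : Scheme.{u}} (k : V ⟶ U) [IsOpenImmersion k] {E : DCoh.D X} {P : CochainComplex U.Modules ℤ}
    (α : DerivedCategory.Q.obj P ⟶ (DCoh.restrictD j).obj E) :
    DerivedCategory.Q.obj (((Scheme.Modules.restrictFunctor k).mapHomologicalComplex (ComplexShape.up ℤ)).obj P) ⟶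
      (DCoh.restrictD (k ≫ j)).obj E :=
  ((Scheme.Modules.restrictFunctor k).mapDerivedCategoryFactors.app P).inv ≫
    (DCoh.restrictD k).map α ≫ ((resTransD j k (k ≫ j) rfl).app E).hom

theorem approx_restrictModel {V : Scheme.{u}} (k : V ⟶ U) [IsOpenImmersion k] {E : DCoh.D X}
    {P : CochainComplex U.Modules ℤ} {α : DerivedCategory.Q.obj P ⟶ (DCoh.restrictD j).obj E} {m : ℤ}
    (hα : Approx α m) : Approx (restrictModel j k α) m :=
  (Approx.of_isIso _ m).comp ((Approx.map_exact (Scheme.Modules.restrictFunctor k) hα).comp (Approx.of_isIso _ m))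

/-- rank at a point when the cokernel is free -/
theorem rkp_add_of_cokernel {M N : U.Modules} {m k : ℕ} (e' : N ≅ FlatMod.freeMod U m) (φ : M ⟶ N)
    (c : cokernel φ ≅ FlatMod.freeMod U k) (v : U) : rkp j φ v + k = m := by
  letI := stalkField (pt (j v)) (isField_stalk_pt _)
  let ρ := Groth.L00.PullStalk.φ (lpt j v) (pt (j v))
  haveI := finiteDimensional_Φ_of_iso ρ e'
  let q := (PreservesCokernel.iso (Fib.Φ ρ) φ ≪≫ ModuleCat.cokernelIsoRangeQuotient _).toLinearEquiv
  have h := Submodule.finrank_quotient_add_finrank (LinearMap.range ((Fib.Φ ρ).map φ).hom)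
  rw [← q.finrank_eq, finrank_Φ_of_iso ρ e', finrank_Φ_of_iso ρ c] at h
  show rk ρ φ + k = m
  unfold rk
  omega

/-- kernels of maps between free modules with flat cokernel -/
theorem isFinLocFree_kernel {Y : Scheme.{u}} {n m : ℕ} (d : FlatMod.freeMod Y n ⟶ FlatMod.freeMod Y m)
    (hd : FlatMod.IsFlat (cokernel d)) : FlatMod.IsFinLocFree (kernel d) := by
  refine isFinLocFree_of_local fun x => ?_
  haveI : Module.Flat (Y.presheaf.stalk x) ((Groth.L00.Stk.F Y x).obj (cokernel d)) := hd x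
  obtain ⟨W, h, hx, hh⟩ := exists_pseudo_nhd d x
  refine ⟨W, hx, ?_⟩
  let R := Scheme.Modules.restrictFunctor W.ι
  let a := R.map d ≫ h
  have ha : a ≫ 𝟙 _ ≫ a = a := by
    simp only [a, Category.id_comp, Category.assoc]
    rw [reassoc_of% hh]
  obtain ⟨K, ⟨i⟩⟩ := cokernel_biprod_of_pseudo a (𝟙 _) ha
  have ha' : a ≫ a = a := by simpa using ha
  have h1 : (𝟙 _ - a) ≫ R.map d = 0 := by
    rw [Preadditive.sub_comp, Category.id_comp, Category.assoc, hh, sub_self]
  let σ := kernel.lift (R.map d) (𝟙 _ - a) h1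
  have h2 : a ≫ σ = 0 := by
    rw [← cancel_mono (kernel.ι (R.map d)), Category.assoc, kernel.lift_ι, Preadditive.comp_sub,
      Category.comp_id, ha', sub_self, zero_comp]
  have h3 : kernel.ι (R.map d) ≫ a = 0 := by rw [← Category.assoc, kernel.condition, zero_comp]
  let e : cokernel a ≅ kernel (R.map d) :=
    { hom := cokernel.desc a σ h2
      inv := kernel.ι (R.map d) ≫ cokernel.π a
      hom_inv_id := by
        rw [← cancel_epi (cokernel.π a), cokernel.π_desc_assoc, kernel.lift_ι_assoc, Preadditive.sub_comp,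
          cokernel.condition, sub_zero, Category.id_comp, Category.comp_id]
      inv_hom_id := by
        rw [Category.assoc, cokernel.π_desc, ← cancel_mono (kernel.ι (R.map d)), Category.assoc, kernel.lift_ι,
          Preadditive.comp_sub, h3, sub_zero, Category.comp_id, Category.id_comp] }
  exact Groth.L29.LocFree.of_iso (e ≪≫ (PreservesKernel.iso R d).symm) (isFinLocFree_of_biprod (i ≪≫
    (Scheme.Modules.restrictFunctorIsoPullback W.ι).app _ ≪≫ Groth.L29.LocFree.pullbackFreeIso W.ι n))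

set_option maxHeartbeats 1600000 in
set_option synthInstance.maxHeartbeats 200000 in
/-- the converse theorem -/
theorem isFinLocFree_and_betti [∀ x : X, DCoh.HasLpull (X.fromSpecResidueField x)]
    (F : CochainComplex X.Modules ℤ) (hF : DCoh.IsKFlat F) (E : DCoh.D X) (e : DCoh.toD X F ≅ E) (p : ℤ)
    (hE : DCoh.IsPseudoCoherentD (p - 1) E) (h₀ : Test F p) (h₁ : Test F (p + 1)) :
    FlatMod.IsFinLocFree (DCoh.HD E p) ∧ IsLocallyConstant (fun x : X => PerfD.betti E x p) := by
  have key : ∀ x : X, ∃ (U : Scheme.{u}) (j : U ⟶ X) (_ : IsOpenImmersion j), x ∈ j.opensRange ∧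
      ∃ c : ℕ, FlatMod.IsFinLocFree ((DCoh.HD E p).restrict j) ∧ ∀ v : U, PerfD.betti E (j v) p = c := by
    intro x
    obtain ⟨U₀, j₀, _, P₀, n, α₀, hx₀, hP₀, hα₀, he₀⟩ := exists_model_of_pc E (p - 1) hE x
    obtain ⟨u₀, rfl⟩ := hx₀
    obtain ⟨_, ⟨(W₁ : U₀.Opens), hW₁, rfl⟩, hu₁, -⟩ :=
      U₀.isBasis_affineOpens.exists_subset_of_mem_open (Set.mem_univ u₀) isOpen_univ
    let k₁ := W₁.ι
    haveI : IsAffine (W₁ : Scheme.{u}) := hW₁
    haveI : IsOpenImmersion (k₁ ≫ j₀) := inferInstance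
    let R₁ := Scheme.Modules.restrictFunctor k₁
    let P₁ := (R₁.mapHomologicalComplex (ComplexShape.up ℤ)).obj P₀
    have hP₁ : DCoh.IsStrictlyPerfect P₁ := isStrictlyPerfect_restrict k₁ hP₀
    have hα₁ := approx_restrictModel j₀ k₁ hα₀
    have he₁ : ∀ i, P₁.X i ≅ FlatMod.freeMod W₁ (n i) := fun i => R₁.mapIso (he₀ i).some ≪≫
      (Scheme.Modules.restrictFunctorIsoPullback k₁).app _ ≪≫ Groth.L29.LocFree.pullbackFreeIso k₁ (n i)
    have hC : ∀ q : ℤ, (q = p ∨ q = p + 1) → FlatMod.IsFlat (cokernel (P₁.d (q - 1) q)) := fun q hq =>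
      Groth.L00.KFlat.isFlat_of_iso ((P₁.opcyclesIsCokernel (q - 1) q (by simp)).coconePointUniqueUpToIso (colimit.isColimit _))
        (isFlat_opcycles (k₁ ≫ j₀) F hF E e P₁ hP₁ _ hα₁ (show p - 1 < q by omega)
          (by rcases hq with rfl | rfl; exacts [h₀, h₁]))
    have hA := hC p (Or.inl rfl)
    have hB : FlatMod.IsFlat (cokernel (P₁.d p (p + 1))) :=
      Eq.subst (motive := fun i => FlatMod.IsFlat (cokernel (P₁.d i (p + 1)))) (show p + 1 - 1 = p by omega)
        (hC (p + 1) (Or.inr rfl))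
    obtain ⟨A₁, a, hua, ⟨ia⟩⟩ := isFinLocFree_cokernel (hP₁.2 _) (hP₁.2 _) _ hA ⟨u₀, hu₁⟩
    obtain ⟨B₁, b, hub, ⟨ib⟩⟩ := isFinLocFree_cokernel (hP₁.2 _) (hP₁.2 _) _ hB ⟨u₀, hu₁⟩
    obtain ⟨ia'⟩ := Groth.L29.LocFree.restrict_le (inf_le_left : A₁ ⊓ B₁ ≤ A₁) ia
    obtain ⟨ib'⟩ := Groth.L29.LocFree.restrict_le (inf_le_right : A₁ ⊓ B₁ ≤ B₁) ib
    let k₂ := (A₁ ⊓ B₁).ι
    let R₂ := Scheme.Modules.restrictFunctor k₂
    let P := (R₂.mapHomologicalComplex (ComplexShape.up ℤ)).obj P₁
    let j := k₂ ≫ k₁ ≫ j₀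
    have hP : DCoh.IsStrictlyPerfect P := isStrictlyPerfect_restrict k₂ hP₁
    have hα := approx_restrictModel (k₁ ≫ j₀) k₂ hα₁
    have he : ∀ i, P.X i ≅ FlatMod.freeMod _ (n i) := fun i => R₂.mapIso (he₁ i) ≪≫
      (Scheme.Modules.restrictFunctorIsoPullback k₂).app _ ≪≫ Groth.L29.LocFree.pullbackFreeIso k₂ (n i)
    let ca : cokernel (P.d (p - 1) p) ≅ FlatMod.freeMod _ a := (PreservesCokernel.iso R₂ (P₁.d (p - 1) p)).symm ≪≫ ia'
    let cb : cokernel (P.d p (p + 1)) ≅ FlatMod.freeMod _ b := (PreservesCokernel.iso R₂ (P₁.d p (p + 1))).symm ≪≫ ib'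
    refine ⟨_, j, inferInstance, ⟨⟨⟨u₀, hu₁⟩, hua, hub⟩, rfl⟩, n p - (n p - a) - (n (p + 1) - b), ?_, fun v => ?_⟩
    · let A := (P.opcyclesIsCokernel (p - 1) p (by simp)).coconePointUniqueUpToIso (colimit.isColimit _) ≪≫ ca
      let d := A.inv ≫ P.fromOpcycles p (p + 1) ≫ (he (p + 1)).hom
      haveI := hα.1 p (by omega)
      let iH : P.homology p ≅ kernel d :=
        (P.homologyIsKernel p (p + 1) (by simp)).conePointUniqueUpToIso (limit.isLimit _) ≪≫
          kernel.mapIso (P.fromOpcycles p (p + 1)) d A (he (p + 1)) (by simp [d])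
      refine Groth.L29.LocFree.of_iso (iH.symm ≪≫ ((DerivedCategory.homologyFunctorFactors _ p).app P).symm ≪≫
        asIso ((DerivedCategory.homologyFunctor _ p).map (restrictModel (k₁ ≫ j₀) k₂ (restrictModel j₀ k₁ α₀))) ≪≫
        HDResIso j E p) (isFinLocFree_kernel d ?_)
      have hd : P.d p (p + 1) = (P.pOpcycles p ≫ A.hom) ≫ d ≫ (he (p + 1)).inv := by
        simp [d]
      refine Groth.L00.KFlat.isFlat_of_iso (?_ : cokernel (P.d p (p + 1)) ≅ cokernel d)
        (Groth.L00.KFlat.isFlat_of_iso cb.symm (isFlat_freeMod _ b))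
      exact cokernelIsoOfEq hd ≪≫ cokernelEpiComp _ _ ≪≫ cokernelCompIsIso _ _
    · have := betti_add_rkp j E hP n he hα v (show p - 1 < p by omega)
      have := rkp_add_of_cokernel j (he p) (P.d (p - 1) p) ca v
      have := rkp_add_of_cokernel j (he (p + 1)) (P.d p (p + 1)) cb v
      omega
  constructor
  · refine isFinLocFree_of_local fun x => ?_
    obtain ⟨U, j, _, hx, c, hU, -⟩ := key x
    refine ⟨j.opensRange, hx, Groth.L29.LocFree.of_iso ?_ (Groth.L29.LocFree.pullback j.isoOpensRange.inv hU)⟩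
    exact ((Scheme.Modules.restrictFunctorIsoPullback j.isoOpensRange.inv).app _).symm ≪≫
      (resTrans j j.isoOpensRange.inv _ j.isoOpensRange_inv_comp).app _
  · refine (IsLocallyConstant.iff_exists_open _).2 fun x => ?_
    obtain ⟨U, j, _, hx, c, -, hc⟩ := key x
    refine ⟨j.opensRange, j.opensRange.2, hx, ?_⟩
    rintro _ ⟨v, rfl⟩
    obtain ⟨u, hu⟩ := hx
    rw [hc v, ← hu, hc u]

open Groth.L29.BC in
/-- exactness on quasi-coherent modules gives the tests -/
theorem test_of_exact [QuasiSeparatedSpace X] (F : CochainComplex X.Modules ℤ) [DCoh.HasLTensorCx F]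
    (F' : CochainComplex X.Modules ℤ) (hF' : DCoh.IsKFlat F') (e : DCoh.toD X F' ≅ DCoh.toD X F) (p : ℤ)
    [PreservesFiniteLimits ((QCohCat.isQCoh X).ι ⋙ DerivedCategory.singleFunctor X.Modules 0 ⋙ DCoh.LTensorCx F ⋙ DerivedCategory.homologyFunctor X.Modules p)]
    [PreservesFiniteColimits ((QCohCat.isQCoh X).ι ⋙ DerivedCategory.singleFunctor X.Modules 0 ⋙ DCoh.LTensorCx F ⋙ DerivedCategory.homologyFunctor X.Modules p)] :
    Test F' p ∧ Test F' (p + 1) := by
  haveI := Groth.L00.KFlat.hasLTensorCx F'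
  haveI : ModSite.HasLTensorCx (O := X.sheaf) F' := inferInstanceAs (DCoh.HasLTensorCx F')
  obtain ⟨t⟩ := RHom.nonempty_lt_iso e
  let S := DerivedCategory.singleFunctor X.Modules 0
  let H := fun q : ℤ => DerivedCategory.homologyFunctor X.Modules q
  let G := S ⋙ DCoh.LTensorCx F'
  let i : (QCohCat.isQCoh X).ι ⋙ G ⋙ H p ≅ (QCohCat.isQCoh X).ι ⋙ S ⋙ DCoh.LTensorCx F ⋙ H p :=
    Functor.isoWhiskerLeft (QCohCat.isQCoh X).ι (Functor.associator _ _ _ ≪≫
      Functor.isoWhiskerLeft S (Functor.isoWhiskerRight t _))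
  haveI : PreservesFiniteLimits ((QCohCat.isQCoh X).ι ⋙ G ⋙ H p) := preservesFiniteLimits_of_natIso i.symm
  haveI : PreservesFiniteColimits ((QCohCat.isQCoh X).ι ⋙ G ⋙ H p) := preservesFiniteColimits_of_natIso i.symm
  have toTest : ∀ q, (∀ (A : QCohCat.QCoh X) (g : A.obj ⟶ Coh.structureModule X), Mono g → Mono ((G ⋙ H q).map g)) →
      Test F' q := fun q h M g hM hg => by
    obtain ⟨τ⟩ := SiteFlat.nonempty_iso (O := X.sheaf) F' hF' q
    exact ((MorphismProperty.monomorphisms X.Modules).arrow_mk_iso_iff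
      (Arrow.isoMk (τ.app M) (τ.app _) (τ.hom.naturality g).symm)).1 (h ⟨M, hM inferInstance⟩ g hg)
  let O : QCohCat.QCoh X := ⟨Coh.structureModule X, IdealTest.isQCoh_unit X⟩
  refine ⟨toTest p fun A g hg => ?_, toTest (p + 1) fun A g hg => ?_⟩
  · let g' : A ⟶ O := ObjectProperty.homMk g
    haveI : Mono ((QCohCat.isQCoh X).ι.map g') := hg
    haveI : Mono g' := (QCohCat.isQCoh X).ι.mono_of_mono_map this
    exact (inferInstance : Mono (((QCohCat.isQCoh X).ι ⋙ G ⋙ H p).map g'))
  · let Q : QCohCat.QCoh X := ⟨cokernel g,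
      (Groth.L00.AlgQCoh.isQCoh_kernel_cokernel g A.2 (IdealTest.isQCoh_unit X)).2⟩
    let π : O ⟶ Q := ObjectProperty.homMk (cokernel.π g)
    haveI : Epi ((QCohCat.isQCoh X).ι.map π) := inferInstanceAs (Epi (cokernel.π g))
    haveI : Epi π := (QCohCat.isQCoh X).ι.epi_of_epi_map this
    have hep : Epi ((H p).map (G.map (cokernel.π g))) :=
      (inferInstance : Epi (((QCohCat.isQCoh X).ι ⋙ G ⋙ H p).map π))
    let S₀ := ShortComplex.mk g (cokernel.π g) (cokernel.condition g)
    haveI := hg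
    have hS : S₀.ShortExact := { exact := ShortComplex.exact_of_g_is_cokernel _ (cokernelIsCokernel g) }
    obtain ⟨k, hk⟩ := exists_triangle (DCoh.LTensorCx F') (LTExact.exists_distinguished F')
      hS.singleTriangle hS.singleTriangle_distinguished
    refine (DerivedCategory.HomologySequence.mono_homologyMap_mor₁_iff _ hk p (p + 1) rfl).2 ?_
    haveI : Epi ((H p).map (Pretriangulated.Triangle.mk (G.map S₀.f) (G.map S₀.g) k).mor₂) := hep
    exact (DerivedCategory.HomologySequence.epi_homologyMap_mor₂_iff _ hk p (p + 1) rfl).1 this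

open Groth.L29.BC in
/-- exactness on all modules gives the tests -/
theorem test_of_exact_all (F : CochainComplex X.Modules ℤ) [DCoh.HasLTensorCx F]
    (F' : CochainComplex X.Modules ℤ) (hF' : DCoh.IsKFlat F') (e : DCoh.toD X F' ≅ DCoh.toD X F) (p : ℤ)
    [PreservesFiniteLimits (DerivedCategory.singleFunctor X.Modules 0 ⋙ DCoh.LTensorCx F ⋙ DerivedCategory.homologyFunctor X.Modules p)]
    [PreservesFiniteColimits (DerivedCategory.singleFunctor X.Modules 0 ⋙ DCoh.LTensorCx F ⋙ DerivedCategory.homologyFunctor X.Modules p)] :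
    Test F' p ∧ Test F' (p + 1) := by
  haveI := Groth.L00.KFlat.hasLTensorCx F'
  haveI : ModSite.HasLTensorCx (O := X.sheaf) F' := inferInstanceAs (DCoh.HasLTensorCx F')
  haveI : (DCoh.LTensorCx F').Additive := Site.additive (O := X.sheaf) F'
  obtain ⟨t⟩ := RHom.nonempty_lt_iso e
  let S := DerivedCategory.singleFunctor X.Modules 0
  let H := fun q : ℤ => DerivedCategory.homologyFunctor X.Modules q
  let G := S ⋙ DCoh.LTensorCx F'
  let i : G ⋙ H p ≅ S ⋙ DCoh.LTensorCx F ⋙ H p :=
    Functor.associator _ _ _ ≪≫ Functor.isoWhiskerLeft S (Functor.isoWhiskerRight t _)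
  haveI : PreservesFiniteLimits (G ⋙ H p) := preservesFiniteLimits_of_natIso i.symm
  haveI : PreservesFiniteColimits (G ⋙ H p) := preservesFiniteColimits_of_natIso i.symm
  haveI : PreservesFiniteLimits (G ⋙ H (p + 1)) := (iff_succ G (fun T hT =>
    exists_triangle (DCoh.LTensorCx F') (LTExact.exists_distinguished F') hT.singleTriangle
      hT.singleTriangle_distinguished) p).1 inferInstance
  have toTest : ∀ q, [PreservesFiniteLimits (G ⋙ H q)] → Test F' q := fun q _ M g _ hg => by
    haveI := hg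
    obtain ⟨τ⟩ := SiteFlat.nonempty_iso (O := X.sheaf) F' hF' q
    exact ((MorphismProperty.monomorphisms X.Modules).arrow_mk_iso_iff
      (Arrow.isoMk (τ.app M) (τ.app _) (τ.hom.naturality g).symm)).1
        (inferInstance : Mono ((G ⋙ H q).map g))
  exact ⟨toTest p, toTest (p + 1)⟩

end Groth.L10.HExact.Converse
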