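import Mathlib.Algebra.Homology.DerivedCategory.HomologySequence
import Mathlib.Algebra.Homology.DerivedCategory.SingleTriangle
import Mathlib.Algebra.Homology.ShortComplex.ExactFunctor

/-!
Exactness of the cohomology functors of an exact functor into a derived category.
-/

set_option autoImplicit false
set_option linter.style.haveILetI false
set_option backward.defeqAttrib.useBackward true
set_option backward.isDefEq.respectTransparency false

universe w v v' u u'

open CategoryTheory CategoryTheory.Limits CategoryTheory.Pretriangulated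

namespace Groth.L10.HExact

variable {A : Type u} [Category.{v} A] [Abelian A] {B : Type u'} [Category.{v'} B] [Abelian B]
  [HasDerivedCategory.{w} B]

/-- right exactness in degree `p` is left exactness in degree `p + 1` -/
theorem iff_succ (G : A ⥤ DerivedCategory B) [G.Additive]
    (hG : ∀ S : ShortComplex A, S.ShortExact →
      ∃ h, Triangle.mk (G.map S.f) (G.map S.g) h ∈ distTriang _) (p : ℤ) :
    PreservesFiniteColimits (G ⋙ DerivedCategory.homologyFunctor B p) ↔
      PreservesFiniteLimits (G ⋙ DerivedCategory.homologyFunctor B (p + 1)) := by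
  rw [((G ⋙ DerivedCategory.homologyFunctor B p).preservesFiniteColimits_tfae.out 3 0 :),
    ((G ⋙ DerivedCategory.homologyFunctor B (p + 1)).preservesFiniteLimits_tfae.out 3 0 :)]
  constructor <;> intro h S hS <;> obtain ⟨k, hT⟩ := hG S hS
  · refine ⟨DerivedCategory.HomologySequence.exact₂ _ hT (p + 1), ?_⟩
    obtain ⟨-, hg⟩ := h S hS
    have hδ : DerivedCategory.HomologySequence.δ (Triangle.mk (G.map S.f) (G.map S.g) k) p (p + 1) rfl = 0 := by
      haveI : Epi ((DerivedCategory.homologyFunctor B p).map (Triangle.mk (G.map S.f) (G.map S.g) k).mor₂) := hg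
      rw [← cancel_epi ((DerivedCategory.homologyFunctor B p).map (Triangle.mk (G.map S.f) (G.map S.g) k).mor₂), comp_zero]
      exact DerivedCategory.HomologySequence.comp_δ _ hT p (p + 1) rfl
    exact (DerivedCategory.HomologySequence.exact₁ _ hT p (p + 1) rfl).mono_g hδ
  · refine ⟨DerivedCategory.HomologySequence.exact₂ _ hT p, ?_⟩
    obtain ⟨-, hf⟩ := h S hS
    have hδ : DerivedCategory.HomologySequence.δ (Triangle.mk (G.map S.f) (G.map S.g) k) p (p + 1) rfl = 0 := by
      haveI : Mono ((DerivedCategory.homologyFunctor B (p + 1)).map (Triangle.mk (G.map S.f) (G.map S.g) k).mor₁) := hf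
      rw [← cancel_mono ((DerivedCategory.homologyFunctor B (p + 1)).map (Triangle.mk (G.map S.f) (G.map S.g) k).mor₁), zero_comp]
      exact DerivedCategory.HomologySequence.δ_comp _ hT p (p + 1) rfl
    exact (DerivedCategory.HomologySequence.exact₃ _ hT p (p + 1) rfl).epi_f hδ

/-- from exactness on rotated triangles -/
theorem exists_triangle {D : Type u} [Category.{v} D] [Preadditive D] [HasZeroObject D] [HasShift D ℤ]
    [∀ n : ℤ, (shiftFunctor D n).Additive] [Pretriangulated D] {E : Type u'} [Category.{v'} E] [Preadditive E]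
    [HasZeroObject E] [HasShift E ℤ] [∀ n : ℤ, (shiftFunctor E n).Additive] [Pretriangulated E]
    (L : D ⥤ E) (hL : ∀ T : Triangle D, T ∈ distTriang _ →
      ∃ h, Triangle.mk (L.map T.mor₂) (L.map T.mor₃) h ∈ distTriang _)
    (T : Triangle D) (hT : T ∈ distTriang _) : ∃ h, Triangle.mk (L.map T.mor₁) (L.map T.mor₂) h ∈ distTriang _ := by
  obtain ⟨h, hd⟩ := hL T.invRotate (inv_rot_of_distTriang _ hT)
  let c := L.mapIso ((shiftEquiv D (1 : ℤ)).counitIso.app T.obj₃)
  refine ⟨c.inv ≫ h, isomorphic_distinguished _ hd _ (Triangle.isoMk _ _ (Iso.refl _) (Iso.refl _) c.symm ?_ ?_ ?_)⟩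
  · change L.map T.mor₁ ≫ 𝟙 _ = 𝟙 _ ≫ L.map T.mor₁
    simp
  · change L.map T.mor₂ ≫ c.inv = 𝟙 _ ≫ L.map T.invRotate.mor₃
    have h' : T.invRotate.mor₃ = T.mor₂ ≫ ((shiftEquiv D (1 : ℤ)).counitIso.inv.app T.obj₃) := rfl
    rw [h', Functor.map_comp, Category.id_comp]
    rfl
  · change (c.inv ≫ h) ≫ (shiftFunctor E (1 : ℤ)).map (𝟙 _) = c.inv ≫ h
    simp

end Groth.L10.HExact
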