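import Groth.Agent.L10.HExact.Converse
import Groth.Agent.L01.FlatCx.Seq

/-!
The locus where all cohomology sheaves of a perfect object are free.
-/

set_option autoImplicit false
set_option linter.style.haveILetI false
set_option backward.defeqAttrib.useBackward true
set_option backward.isDefEq.respectTransparency false
set_option backward.isDefEq.respectTransparency.types false

universe u

open CategoryTheory CategoryTheory.Limits AlgebraicGeometry HomologicalComplex

attribute [local instance] HasDerivedCategory.standard preservesBinaryBiproducts_of_preservesBinaryCoproducts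

noncomputable section

namespace Groth.L10.HExact.FreeLocus

open Groth.L29.DC Groth.L29.DC.Fib

variable {X : Scheme.{u}}

/-- freeness descends along a bijective ring map -/
theorem free_of_extendScalars_bijective {A B : Type u} [CommRing A] [CommRing B] (g : A →+* B)
    (hg : Function.Bijective g) (M : ModuleCat.{u} A)
    (h : Module.Free B ((ModuleCat.extendScalars g).obj M) ∧ Module.Finite B ((ModuleCat.extendScalars g).obj M)) :
    Module.Free A M ∧ Module.Finite A M := by
  letI := g.toAlgebra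
  let e : A ≃ₗ[A] B := LinearEquiv.ofBijective (Algebra.linearMap A B) hg
  haveI : Module.Free B (TensorProduct A B M) := h.1
  haveI : Module.Finite B (TensorProduct A B M) := h.2
  haveI : Module.Free A B := Module.Free.of_equiv e
  haveI : Module.Finite A B := Module.Finite.equiv e
  haveI : Module.Free A (TensorProduct A B M) := Module.Free.trans (R := A) (S := B)
  haveI : Module.Finite A (TensorProduct A B M) := Module.Finite.trans B _
  let e' : TensorProduct A B M ≃ₗ[A] M := (LinearEquiv.rTensor M e.symm).trans (TensorProduct.lid A M)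
  exact ⟨Module.Free.of_equiv e', Module.Finite.equiv e'⟩

theorem free_stalk_of_isFinLocFree {M : X.Modules} (W : X.Opens) (h : FlatMod.IsFinLocFree (M.restrict W.ι))
    {x : X} (hx : x ∈ W) :
    Module.Free (X.presheaf.stalk x) ((Groth.L00.Stk.F X x).obj M) ∧
      Module.Finite (X.presheaf.stalk x) ((Groth.L00.Stk.F X x).obj M) := by
  obtain ⟨V, n, hV, ⟨i⟩⟩ := h ⟨x, hx⟩
  let k := V.ι ≫ W.ι
  let v : (V : Scheme.{u}) := ⟨⟨x, hx⟩, hV⟩
  refine free_of_extendScalars_bijective (Groth.L00.PullStalk.φ k v)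
    (ConcreteCategory.bijective_of_isIso (k.stalkMap v)) ((Groth.L00.Stk.F X (k v)).obj M) ?_
  let e : (Groth.L00.Stk.F V v).obj (FlatMod.freeMod V n) ≅
      (ModuleCat.extendScalars (Groth.L00.PullStalk.φ k v)).obj ((Groth.L00.Stk.F X (k v)).obj M) :=
    (Groth.L00.Stk.F V v).mapIso (i.symm ≪≫ (resTrans W.ι V.ι k rfl).app M ≪≫
      (Scheme.Modules.restrictFunctorIsoPullback k).app M) ≪≫ (Groth.L00.PullStalk.stalkIso k v).app M
  let ρ : (V : Scheme.{u}).presheaf.stalk v →+* (V : Scheme.{u}).presheaf.stalk v := RingHom.id _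
  letI := ρ.toAlgebra
  let c : (Groth.L00.Stk.F V v).obj (FlatMod.freeMod V n) ≃ₗ[(V : Scheme.{u}).presheaf.stalk v]
      (Fib.Φ ρ).obj (FlatMod.freeMod V n) := (TensorProduct.lid _ _).symm
  let e' := (c.trans (coord ρ n)).symm.trans e.toLinearEquiv
  exact ⟨Module.Free.of_equiv e', Module.Finite.equiv e'⟩

variable {U : Scheme.{u}}

/-- flatness in the sequence `0 → H → C → P → C' → 0` -/
theorem flat_seq (P : CochainComplex U.Modules ℤ) (i : ℤ) (v : U)
    (hP : Module.Flat (U.presheaf.stalk v) ((Groth.L00.Stk.F U v).obj (P.X (i + 1))))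
    (hC : Module.Flat (U.presheaf.stalk v) ((Groth.L00.Stk.F U v).obj (P.opcycles (i + 1)))) :
    (Module.Flat (U.presheaf.stalk v) ((Groth.L00.Stk.F U v).obj (P.homology i)) →
      Module.Flat (U.presheaf.stalk v) ((Groth.L00.Stk.F U v).obj (P.opcycles i))) ∧
    (Module.Flat (U.presheaf.stalk v) ((Groth.L00.Stk.F U v).obj (P.opcycles i)) →
      Module.Flat (U.presheaf.stalk v) ((Groth.L00.Stk.F U v).obj (P.homology i))) := by
  let F := Groth.L00.Stk.F U v
  let δ := P.fromOpcycles i (i + 1)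
  have hδ : δ ≫ P.pOpcycles (i + 1) = 0 := by
    rw [← cancel_epi (P.pOpcycles i), p_fromOpcycles_assoc, d_pOpcycles, comp_zero]
  let S₁ := ShortComplex.mk (P.homologyι i) δ (P.homologyι_comp_fromOpcycles i (i + 1))
  let S₂ := ShortComplex.mk δ (P.pOpcycles (i + 1)) hδ
  have h₁ : S₁.Exact := ShortComplex.exact_of_f_is_kernel _ (P.homologyIsKernel i (i + 1) (by simp))
  have h₂ : S₂.Exact := by
    refine ShortComplex.exact_of_g_is_cokernel _ (CokernelCofork.IsColimit.ofπ _ _
      (fun {T} t ht => P.descOpcycles t i (by simp) ((congrArg (· ≫ t) (P.p_fromOpcycles i (i + 1)).symm).trans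
        ((Category.assoc _ _ _).trans (by rw [ht, comp_zero]))))
      (fun {T} t ht => P.p_descOpcycles t i _ _) (fun {T} t ht m hm => by
        rw [← cancel_epi (P.pOpcycles (i + 1)), P.p_descOpcycles]; exact hm))
  haveI : Mono (F.map (P.homologyι i)) := inferInstance
  haveI : Epi (F.map (P.pOpcycles (i + 1))) := inferInstance
  have e₁ : Function.Exact (F.map (P.homologyι i)).hom (F.map δ).hom :=
    (ShortComplex.ShortExact.moduleCat_exact_iff_function_exact _).1 (h₁.map F)
  have e₂ : Function.Exact (F.map δ).hom (F.map (P.pOpcycles (i + 1))).hom :=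
    (ShortComplex.ShortExact.moduleCat_exact_iff_function_exact _).1 (h₂.map F)
  haveI := hP
  haveI := hC
  let r := (F.map δ).hom.rangeRestrict
  haveI : Module.Flat (U.presheaf.stalk v) (LinearMap.range (F.map δ).hom) :=
    Groth.L01.FlatCx.flat_left (g := (F.map (P.pOpcycles (i + 1))).hom) (Submodule.injective_subtype _)
      ((ModuleCat.epi_iff_surjective _).1 inferInstance) (by
        rw [LinearMap.exact_iff, Submodule.range_subtype]; exact LinearMap.exact_iff.1 e₂)
  have e₃ : Function.Exact (F.map (P.homologyι i)).hom r := by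
    rw [LinearMap.exact_iff, LinearMap.ker_rangeRestrict]; exact LinearMap.exact_iff.1 e₁
  constructor
  · intro h
    haveI := h
    exact Groth.L01.FlatCx.flat_middle ((ModuleCat.mono_iff_injective _).1 inferInstance)
      (LinearMap.surjective_rangeRestrict _) e₃
  · intro h
    haveI := h
    exact Groth.L01.FlatCx.flat_left ((ModuleCat.mono_iff_injective _).1 inferInstance)
      (LinearMap.surjective_rangeRestrict _) e₃

theorem flat_stalk_of_isZero {M : U.Modules} (h : IsZero M) (v : U) :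
    Module.Flat (U.presheaf.stalk v) ((Groth.L00.Stk.F U v).obj M) :=
  Groth.L00.KFlat.isFlat_zero h v

/-- flatness of all cohomology at a point gives flatness of all opcycles there -/
theorem flat_opcycles (P : CochainComplex U.Modules ℤ) (hP : DCoh.IsStrictlyPerfect P) (v : U)
    (hH : ∀ i, Module.Flat (U.presheaf.stalk v) ((Groth.L00.Stk.F U v).obj (P.homology i))) (i : ℤ) :
    Module.Flat (U.presheaf.stalk v) ((Groth.L00.Stk.F U v).obj (P.opcycles i)) := by
  obtain ⟨⟨a, b, hv⟩, hf⟩ := hP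
  suffices h : ∀ k : ℕ, Module.Flat (U.presheaf.stalk v) ((Groth.L00.Stk.F U v).obj (P.opcycles (b + 1 - k))) by
    by_cases hi : i ≤ b
    · have := h (b + 1 - i).toNat
      rwa [show b + 1 - ((b + 1 - i).toNat : ℤ) = i by omega] at this
    · exact flat_stalk_of_isZero (IsZero.of_epi (P.pOpcycles i) (hv i (Or.inr (by omega)))) v
  intro k
  induction k with
  | zero => exact flat_stalk_of_isZero (IsZero.of_epi (P.pOpcycles _) (hv _ (Or.inr (by omega)))) v
  | succ k ih =>
    refine (flat_seq P _ v (isFlat_of_isFinLocFree (hf _) v) ?_).1 (hH _)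
    rwa [show b + 1 - ((k + 1 : ℕ) : ℤ) + 1 = b + 1 - (k : ℤ) by omega]

/-- near a point where all cohomology is flat it is finite locally free -/
theorem exists_nhd (P : CochainComplex U.Modules ℤ) (hP : DCoh.IsStrictlyPerfect P) (n : ℤ → ℕ)
    (e : ∀ i, P.X i ≅ FlatMod.freeMod U (n i)) (u : U)
    (hH : ∀ i, Module.Flat (U.presheaf.stalk u) ((Groth.L00.Stk.F U u).obj (P.homology i))) :
    ∃ W : U.Opens, u ∈ W ∧ ∀ i : ℤ, FlatMod.IsFinLocFree ((P.homology i).restrict W.ι) := by
  classical
  have hC := flat_opcycles P hP u hH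
  have hP' := hP
  obtain ⟨⟨a, b, hv⟩, hf⟩ := hP'
  let co : ∀ i : ℤ, P.opcycles i ≅ cokernel ((e (i - 1)).inv ≫ P.d (i - 1) i ≫ (e i).hom) := fun i =>
    (P.opcyclesIsCokernel (i - 1) i (by simp)).coconePointUniqueUpToIso (colimit.isColimit _) ≪≫
      cokernel.mapIso _ _ (e (i - 1)) (e i) (by simp)
  have hW : ∀ i : ℤ, ∃ W : U.Opens, u ∈ W ∧ FlatMod.IsFinLocFree ((P.opcycles i).restrict W.ι) := fun i => by
    haveI : Module.Flat (U.presheaf.stalk u) ((Groth.L00.Stk.F U u).obj (cokernel ((e (i - 1)).inv ≫ P.d (i - 1) i ≫ (e i).hom))) :=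
      Groth.L00.TorAmp.flat_of_iso ((Groth.L00.Stk.F U u).mapIso (co i).symm) (hC i)
    obtain ⟨W, h, hx, hh⟩ := exists_pseudo_nhd ((e (i - 1)).inv ≫ P.d (i - 1) i ≫ (e i).hom) u
    obtain ⟨K, ⟨t⟩⟩ := cokernel_biprod_of_pseudo _ h hh
    exact ⟨W, hx, Groth.L29.LocFree.of_iso ((PreservesCokernel.iso (Scheme.Modules.restrictFunctor W.ι) _).symm ≪≫
      (Scheme.Modules.restrictFunctor W.ι).mapIso (co i).symm)
      (isFinLocFree_of_biprod (t ≪≫ (Scheme.Modules.restrictFunctorIsoPullback W.ι).app _ ≪≫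
        Groth.L29.LocFree.pullbackFreeIso W.ι _))⟩
  choose W hu hWf using hW
  let O := (Finset.Icc a (b + 1)).inf W
  have hO : u ∈ O := by
    rw [← SetLike.mem_coe, TopologicalSpace.Opens.coe_finset_inf]
    simp only [Set.mem_iInter, SetLike.mem_coe, Finset.inf_eq_iInf, Set.iInf_eq_iInter]
    exact fun k _ => hu k
  refine ⟨O, hO, ?_⟩
  let R := Scheme.Modules.restrictFunctor O.ι
  let Q := (R.mapHomologicalComplex (ComplexShape.up ℤ)).obj P
  have hQ : DCoh.IsStrictlyPerfect Q := isStrictlyPerfect_restrict O.ι hP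
  have hQC : ∀ i, FlatMod.IsFlat (Q.opcycles i) := fun i => by
    by_cases hi : i ∈ Finset.Icc a (b + 1)
    · refine Groth.L00.KFlat.isFlat_of_iso
        (((Q.opcyclesIsCokernel (i - 1) i (by simp)).coconePointUniqueUpToIso (colimit.isColimit _) ≪≫
          (PreservesCokernel.iso R (P.d (i - 1) i)).symm ≪≫
          R.mapIso ((P.opcyclesIsCokernel (i - 1) i (by simp)).coconePointUniqueUpToIso (colimit.isColimit _)).symm)).symm ?_
      obtain ⟨k, hk⟩ : ∃ k : (O : Scheme.{u}) ⟶ W i, k ≫ (W i).ι = O.ι :=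
        ⟨U.homOfLE (Finset.inf_le hi), U.homOfLE_ι _⟩
      haveI : IsOpenImmersion (k ≫ (W i).ι) := by rw [hk]; infer_instance
      haveI : IsOpenImmersion k := IsOpenImmersion.of_comp k (W i).ι
      exact Groth.L00.KFlat.isFlat_of_iso ((Scheme.Modules.restrictFunctorIsoPullback k).symm.app _ ≪≫
        (resTrans (W i).ι k O.ι hk).app _) (Groth.L00.TorAmp.isFlat_pullback k (isFlat_of_isFinLocFree (hWf i)))
    · refine Groth.L00.KFlat.isFlat_zero (IsZero.of_epi (Q.pOpcycles i) (R.map_isZero (hv i ?_)))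
      simp only [Finset.mem_Icc] at hi
      omega
  intro i
  let ee : ∀ k, Q.X k ≅ FlatMod.freeMod O (n k) := fun k => R.mapIso (e k) ≪≫
    (Scheme.Modules.restrictFunctorIsoPullback O.ι).app _ ≪≫ Groth.L29.LocFree.pullbackFreeIso O.ι (n k)
  let d := (ee i).inv ≫ Q.d i (i + 1) ≫ (ee (i + 1)).hom
  have hd : FlatMod.IsFlat (cokernel d) := Groth.L00.KFlat.isFlat_of_iso
    ((Q.opcyclesIsCokernel i (i + 1) (by simp)).coconePointUniqueUpToIso (colimit.isColimit _) ≪≫
      cokernel.mapIso (Q.d i (i + 1)) d (ee i) (ee (i + 1)) ((ee i).hom_inv_id_assoc _).symm) (hQC (i + 1))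
  have hZ : FlatMod.IsFinLocFree (Q.cycles i) := Groth.L29.LocFree.of_iso
    ((Q.cyclesIsKernel i (i + 1) (by simp)).conePointUniqueUpToIso (limit.isLimit _) ≪≫
      kernel.mapIso (Q.d i (i + 1)) d (ee i) (ee (i + 1)) ((ee i).hom_inv_id_assoc _).symm).symm (Converse.isFinLocFree_kernel d hd)
  let c : cokernel (Q.toCycles (i - 1) i) ≅ Q.homology i :=
    (colimit.isColimit _).coconePointUniqueUpToIso (Q.homologyIsCokernel (i - 1) i (by simp))
  refine Groth.L29.LocFree.of_iso (c ≪≫ (P.sc i).mapHomologyIso R)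
    (isFinLocFree_cokernel (hQ.2 (i - 1)) hZ _ (Groth.L00.KFlat.isFlat_of_iso c.symm fun v => ?_))
  exact (flat_seq Q i v (isFlat_of_isFinLocFree (hQ.2 _) v) (hQC (i + 1) v)).2 (hQC i v)

/-- the free locus of a perfect object -/
theorem exists_nhd_perfect (E : DCoh.D X) (hE : DCoh.IsPerfect E) (x : X)
    (hx : ∀ i : ℤ, Module.Free (X.presheaf.stalk x) ((Groth.L00.Stk.F X x).obj (DCoh.HD E i))) :
    ∃ W : X.Opens, x ∈ W ∧ ∀ i : ℤ, FlatMod.IsFinLocFree ((DCoh.HD E i).restrict W.ι) := by
  obtain ⟨U, j, _, P, n, α, hxU, hP, hα, he⟩ := exists_model_of_perfect E hE x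
  obtain ⟨u, rfl⟩ := hxU
  haveI := hα
  let h : ∀ i, P.homology i ≅ (DCoh.HD E i).restrict j := fun i =>
    ((DerivedCategory.homologyFunctorFactors _ i).app P).symm ≪≫
      (DerivedCategory.homologyFunctor _ i).mapIso (asIso α) ≪≫ HDResIso j E i
  obtain ⟨O, hu, hO⟩ := exists_nhd P hP n (fun i => (he i).some) u fun i => by
    haveI := hx i
    exact Groth.L00.TorAmp.flat_of_iso ((Groth.L00.Stk.F U u).mapIso (h i ≪≫
      (Scheme.Modules.restrictFunctorIsoPullback j).app _) ≪≫ (Groth.L00.PullStalk.stalkIso j u).app _)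
      (Groth.L00.TorAmp.flat_extendScalars _ _ (inferInstance : Module.Flat _ _))
  let k := O.ι ≫ j
  refine ⟨k.opensRange, ⟨⟨u, hu⟩, rfl⟩, fun i => ?_⟩
  refine Groth.L29.LocFree.of_iso (((Scheme.Modules.restrictFunctorIsoPullback k.isoOpensRange.inv).app _).symm ≪≫
    (resTrans k k.isoOpensRange.inv _ k.isoOpensRange_inv_comp).app _) (Groth.L29.LocFree.pullback k.isoOpensRange.inv ?_)
  exact Groth.L29.LocFree.of_iso ((Scheme.Modules.restrictFunctor O.ι).mapIso (h i) ≪≫ (resTrans j O.ι k rfl).app _) (hO i)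

end Groth.L10.HExact.FreeLocus
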