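import Groth.Prelude.Def_QCohCat
import Groth.Agent.L29.BC.PFNat
import Groth.Agent.L29.DCoh.RHomBound

/-!
Exactness properties of `M ↦ R^p f_*(Lf^* M ⊗^L F)` through the projection formula.
-/

set_option autoImplicit false
set_option linter.style.haveILetI false
set_option backward.defeqAttrib.useBackward true
set_option backward.isDefEq.respectTransparency false
set_option backward.isDefEq.respectTransparency.types false

universe u

open CategoryTheory CategoryTheory.Limits AlgebraicGeometry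

attribute [local instance] HasDerivedCategory.standard

namespace Groth.L10.HExact.Push

open Groth.L00 Groth.L29.DC Groth.L29.BC

variable {X Y : Scheme.{u}}

theorem isQCohD_single (M : Y.Modules) (hM : Coh.IsQCoh M) :
    DCoh.IsQCohD ((DerivedCategory.singleFunctor Y.Modules 0).obj M) := fun i => by
  rcases eq_or_ne i 0 with rfl | hi
  · exact isQCoh_of_iso' ((DerivedCategory.singleFunctorCompHomologyFunctorIso Y.Modules 0).app M).symm hM
  · refine isQCoh_of_isZero ?_
    rcases lt_or_gt_of_ne hi with h | h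
    · exact DerivedCategory.isZero_of_isGE _ 0 i h
    · exact DerivedCategory.isZero_of_isLE _ 0 i h

/-- on quasi-coherent modules `Rf_*(Lf^*(-) ⊗^L F)` is `- ⊗^L Rf_*F` -/
theorem exists_repr (f : X ⟶ Y) [QuasiCompact f] [QuasiSeparated f] (F : CochainComplex X.Modules ℤ)
    [DCoh.HasLTensorCx F] [DCoh.HasLpull f] [DCoh.HasRpush f] (hF : DCoh.IsQCohD (DCoh.toD X F)) :
    ∃ (K : CochainComplex Y.Modules ℤ) (_ : DCoh.HasLTensorCx K),
      Nonempty (DCoh.toD Y K ≅ (DCoh.Rpush f).obj (DCoh.toD X F)) ∧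
      ∀ p : ℤ, Nonempty ((QCohCat.isQCoh Y).ι ⋙ DerivedCategory.singleFunctor Y.Modules 0 ⋙ DCoh.LTensorCx K ⋙
          DerivedCategory.homologyFunctor Y.Modules p ≅
        (QCohCat.isQCoh Y).ι ⋙ DerivedCategory.singleFunctor Y.Modules 0 ⋙ DCoh.Lpull f ⋙ DCoh.LTensorCx F ⋙
          DCoh.Rpush f ⋙ DerivedCategory.homologyFunctor Y.Modules p) := by
  haveI := Groth.L17.PushQCoh.additive_push f
  obtain ⟨I, i, hI, hi⟩ := ProjFormulaD.exists_kinj F
  haveI := hI
  haveI := (DerivedCategory.isIso_Q_map_iff_quasiIso _ i).2 hi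
  let eI : DCoh.toD X F ≅ DCoh.toD X I := asIso (DerivedCategory.Q.map i)
  haveI : DCoh.HasLTensorCx I := KFlat.hasLTensorCx I
  let K := (Proj.pushCx f).obj I
  haveI : DCoh.HasLTensorCx K := KFlat.hasLTensorCx K
  obtain ⟨t⟩ := RHom.nonempty_lt_iso eI.symm
  obtain ⟨τ, -, hτ⟩ := PFNat.exists_pf f I (𝟙 K) (isQCohD_of_iso eI hF)
  haveI := SupportAdj.isIso_pushComp f I
  refine ⟨K, inferInstance, ⟨asIso (SupportAdj.pushComp f I) ≪≫ (DCoh.Rpush f).mapIso eI.symm⟩, fun p => ?_⟩
  let S := (QCohCat.isQCoh Y).ι ⋙ DerivedCategory.singleFunctor Y.Modules 0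
  haveI : ∀ M, IsIso ((Functor.whiskerLeft S τ).app M) := fun M =>
    hτ _ (isQCohD_single _ M.property)
  haveI := NatIso.isIso_of_isIso_app (Functor.whiskerLeft S τ)
  let a : S ⋙ DCoh.LTensorCx K ≅ S ⋙ DCoh.Lpull f ⋙ DCoh.LTensorCx F ⋙ DCoh.Rpush f :=
    asIso (Functor.whiskerLeft S τ) ≪≫ Functor.isoWhiskerLeft S (Functor.isoWhiskerLeft (DCoh.Lpull f)
      (Functor.isoWhiskerRight t (DCoh.Rpush f)))
  exact ⟨Functor.isoWhiskerRight a (DerivedCategory.homologyFunctor Y.Modules p)⟩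

end Groth.L10.HExact.Push
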