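import Groth.Agent.L04.DerComp.SiteLTensor
import Groth.Agent.L15.KFlatSite.Assoc
import Mathlib.Algebra.Homology.DerivedCategory.HomologySequence
import Mathlib.Algebra.Homology.DerivedCategory.Fractions

/-!
Derived tensor products on ringed sites are exact on distinguished triangles.
-/

set_option autoImplicit false
set_option linter.style.haveILetI false
set_option backward.defeqAttrib.useBackward true
set_option backward.isDefEq.respectTransparency false
set_option backward.isDefEq.respectTransparency.types false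

universe u

open CategoryTheory CategoryTheory.Limits CategoryTheory.Pretriangulated CochainComplex

attribute [local instance] HasDerivedCategory.standard

noncomputable section

namespace Groth.L10.HExact.Site

open Groth.L15.KFlatSite

variable {C : Type u} [SmallCategory C] {J : GrothendieckTopology C} {O : Sheaf J CommRingCat.{u}}

theorem exists_resolution (G : CochainComplex (ModSite.Mod O) ℤ) :
    ∃ (P : CochainComplex (ModSite.Mod O) ℤ) (r : P ⟶ G), ModSite.IsKFlat P ∧ QuasiIso r :=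
  ⟨_, (Groth.L04.SiteLTensor.rF O).app G, Groth.L04.SiteLTensor.isKFlat_RF O G, Groth.L04.SiteLTensor.quasiIso_rF O G⟩

variable (K : CochainComplex (ModSite.Mod O) ℤ) [ModSite.HasLTensorCx K]

/-- `- ⊗^L K` on a K-flat complex -/
noncomputable def cnt (P : CochainComplex (ModSite.Mod O) ℤ) :
    (ModSite.LTensorCx K).obj (DerivedCategory.Q.obj P) ⟶ DerivedCategory.Q.obj ((Groth.L15.KFlatSite.T K).obj P) :=
  ((ModSite.tensorCxQ K).totalLeftDerivedCounit DerivedCategory.Q
    (HomologicalComplex.quasiIso (ModSite.Mod O) (ComplexShape.up ℤ))).app P ≫ DerivedCategory.Q.map (commIso P K).inv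

theorem cnt_natural {P P' : CochainComplex (ModSite.Mod O) ℤ} (m : P ⟶ P') :
    (ModSite.LTensorCx K).map (DerivedCategory.Q.map m) ≫ cnt K P' =
      cnt K P ≫ DerivedCategory.Q.map ((Groth.L15.KFlatSite.T K).map m) := by
  let α := (ModSite.tensorCxQ K).totalLeftDerivedCounit DerivedCategory.Q
    (HomologicalComplex.quasiIso (ModSite.Mod O) (ComplexShape.up ℤ))
  have h1 : (ModSite.LTensorCx K).map (DerivedCategory.Q.map m) ≫ α.app P' =
      α.app P ≫ DerivedCategory.Q.map (((ModSite.tensorCx O).map m).app K) := α.naturality m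
  have h2 : ((ModSite.tensorCx O).map m).app K ≫ (commIso P' K).inv = (commIso P K).inv ≫ (Groth.L15.KFlatSite.T K).map m := by
    rw [Iso.eq_inv_comp, ← Category.assoc, ← commIso_natural, Category.assoc, Iso.hom_inv_id, Category.comp_id]
  refine (Category.assoc _ _ _).symm.trans ((congrArg (· ≫ _) h1).trans ?_)
  rw [cnt, Category.assoc, Category.assoc, ← Functor.map_comp, ← Functor.map_comp, h2]

theorem isIso_cnt {P : CochainComplex (ModSite.Mod O) ℤ} (hP : ModSite.IsKFlat P) : IsIso (cnt K P) := by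
  haveI := Groth.L04.SiteLTensor.isIso_counit K P hP
  unfold cnt
  infer_instance

set_option maxHeartbeats 800000 in
/-- the image of a distinguished triangle is distinguished -/
theorem exists_distinguished (T : Triangle (DerivedCategory (ModSite.Mod O))) (hT : T ∈ distTriang _) :
    ∃ h, Triangle.mk ((ModSite.LTensorCx K).map T.mor₂) ((ModSite.LTensorCx K).map T.mor₃) h ∈ distTriang _ := by
  obtain ⟨E₁, ⟨e₁⟩⟩ : ∃ F : CochainComplex (ModSite.Mod O) ℤ, Nonempty (DerivedCategory.Q.obj F ≅ T.obj₁) :=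
    ⟨_, ⟨DerivedCategory.Q.objObjPreimageIso T.obj₁⟩⟩
  obtain ⟨E₂, q₂, hE₂, hq₂⟩ := exists_resolution (DerivedCategory.Q.objPreimage T.obj₂)
  haveI := (DerivedCategory.isIso_Q_map_iff_quasiIso _ q₂).2 hq₂
  let e₂ : DerivedCategory.Q.obj E₂ ≅ T.obj₂ :=
    asIso (DerivedCategory.Q.map q₂) ≪≫ DerivedCategory.Q.objObjPreimageIso T.obj₂
  obtain ⟨R, s, hs, φ₀, hφ₀⟩ := DerivedCategory.right_fac (e₁.hom ≫ T.mor₁ ≫ e₂.inv)
  obtain ⟨A, r, hA, hr⟩ := exists_resolution R
  haveI := (DerivedCategory.isIso_Q_map_iff_quasiIso _ r).2 hr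
  let φ := r ≫ φ₀
  have hT' : DerivedCategory.Q.mapTriangle.obj (mappingCone.triangle φ) ∈ distTriang _ :=
    (DerivedCategory.mem_distTriang_iff _).2 ⟨_, _, φ, ⟨Iso.refl _⟩⟩
  let a₁ : DerivedCategory.Q.obj A ≅ T.obj₁ :=
    asIso (DerivedCategory.Q.map r) ≪≫ asIso (DerivedCategory.Q.map s) ≪≫ e₁
  have h1 : DerivedCategory.Q.map φ₀ = DerivedCategory.Q.map s ≫ e₁.hom ≫ T.mor₁ ≫ e₂.inv := by
    rw [hφ₀, IsIso.hom_inv_id_assoc]
  let θ := isoTriangleOfIso₁₂ _ T hT' hT a₁ e₂ (by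
    change DerivedCategory.Q.map (r ≫ φ₀) ≫ e₂.hom =
      (DerivedCategory.Q.map r ≫ DerivedCategory.Q.map s ≫ e₁.hom) ≫ T.mor₁
    rw [Functor.map_comp, h1]
    simp)
  let tr := mappingCone.triangle φ
  let m₂ : E₂ ⟶ mappingCone φ := tr.mor₂
  let m₃ : mappingCone φ ⟶ A⟦(1 : ℤ)⟧ := tr.mor₃
  let t₂ : DerivedCategory.Q.obj E₂ ⟶ T.obj₂ := θ.hom.hom₂
  let t₃ : DerivedCategory.Q.obj (mappingCone φ) ⟶ T.obj₃ := θ.hom.hom₃
  let t₁ : DerivedCategory.Q.obj (A⟦(1 : ℤ)⟧) ⟶ T.obj₁⟦(1 : ℤ)⟧ :=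
    (DerivedCategory.Q.commShiftIso (1 : ℤ)).hom.app A ≫ θ.hom.hom₁⟦(1 : ℤ)⟧'
  haveI : IsIso θ.hom.hom₁ := inferInstanceAs (IsIso ((Triangle.π₁).map θ.hom))
  haveI : IsIso t₃ := inferInstanceAs (IsIso ((Triangle.π₃).map θ.hom))
  haveI : IsIso t₁ := inferInstanceAs (IsIso (_ ≫ _))
  have c2 : DerivedCategory.Q.map m₂ ≫ t₃ = t₂ ≫ T.mor₂ := θ.hom.comm₂
  have c3 : DerivedCategory.Q.map m₃ ≫ t₁ = t₃ ≫ T.mor₃ :=
    (Category.assoc _ _ _).symm.trans θ.hom.comm₃
  have hC : ModSite.IsKFlat (mappingCone φ) := isKFlat_cone _ hA hE₂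
  haveI := isIso_cnt K hC
  haveI := isIso_cnt K hE₂
  obtain ⟨w, hS⟩ : ∃ w, (ShortComplex.mk
      ((Groth.L15.KFlatSite.T K).map (mappingCone.triangleRotateShortComplex φ).f)
      ((Groth.L15.KFlatSite.T K).map (mappingCone.triangleRotateShortComplex φ).g) w).ShortExact :=
    ⟨_, Groth.L00.BifExact.shortExact_T_of_splitting _ K _ (mappingCone.triangleRotateShortComplexSplitting φ)⟩
  haveI := isIso_cnt K (Groth.L15.KFlatSite.shift A 1 hA)
  haveI : IsIso t₂ := inferInstanceAs (IsIso ((Triangle.π₂).map θ.hom))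
  let u₂ := inv ((ModSite.LTensorCx K).map t₂) ≫ cnt K E₂
  let u₃ := inv ((ModSite.LTensorCx K).map t₃) ≫ cnt K (mappingCone φ)
  let u₁ := inv ((ModSite.LTensorCx K).map t₁) ≫ cnt K (A⟦(1 : ℤ)⟧)
  refine ⟨u₁ ≫ (DerivedCategory.triangleOfSES hS).mor₃ ≫ (inv u₂)⟦(1 : ℤ)⟧', ?_⟩
  refine isomorphic_distinguished _ (DerivedCategory.triangleOfSES_distinguished hS) _
    (Triangle.isoMk _ _ (asIso u₂) (asIso u₃) (asIso u₁) ?_ ?_ ?_)
  · change (ModSite.LTensorCx K).map T.mor₂ ≫ inv ((ModSite.LTensorCx K).map t₃) ≫ cnt K (mappingCone φ) =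
      (inv ((ModSite.LTensorCx K).map t₂) ≫ cnt K E₂) ≫ DerivedCategory.Q.map ((Groth.L15.KFlatSite.T K).map m₂)
    rw [Category.assoc, ← cnt_natural K m₂, IsIso.eq_inv_comp, ← Functor.map_comp_assoc, ← c2, Functor.map_comp,
      Category.assoc, IsIso.hom_inv_id_assoc]
  · change (ModSite.LTensorCx K).map T.mor₃ ≫ inv ((ModSite.LTensorCx K).map t₁) ≫ cnt K (A⟦(1 : ℤ)⟧) =
      (inv ((ModSite.LTensorCx K).map t₃) ≫ cnt K (mappingCone φ)) ≫ DerivedCategory.Q.map ((Groth.L15.KFlatSite.T K).map m₃)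
    rw [Category.assoc, ← cnt_natural K m₃, IsIso.eq_inv_comp, ← Functor.map_comp_assoc, ← c3, Functor.map_comp,
      Category.assoc, IsIso.hom_inv_id_assoc]
  · change (u₁ ≫ (DerivedCategory.triangleOfSES hS).mor₃ ≫ (inv u₂)⟦(1 : ℤ)⟧') ≫ u₂⟦(1 : ℤ)⟧' = _
    refine (Category.assoc _ _ _).trans (congrArg (u₁ ≫ ·) ((Category.assoc _ _ _).trans ?_))
    rw [← Functor.map_comp, IsIso.inv_hom_id, CategoryTheory.Functor.map_id]
    exact Category.comp_id _

/-- the derived tensor product is additive -/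
theorem additive : (ModSite.LTensorCx K).Additive := by
  let L := ModSite.LTensorCx K
  let F : CochainComplex (ModSite.Mod O) ℤ ⥤ DerivedCategory (ModSite.Mod O) := DerivedCategory.Q ⋙ L
  haveI hF : F.Additive := ⟨fun {X Y u v} => by
    obtain ⟨P, r, hP, hr⟩ := exists_resolution X
    let R := Groth.L04.SiteLTensor.RF O
    let ρ := Groth.L04.SiteLTensor.rF O
    haveI : IsIso (cnt K (R.obj Y)) := isIso_cnt K (Groth.L04.SiteLTensor.isKFlat_RF O Y)
    haveI := Groth.L04.SiteLTensor.quasiIso_rF O X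
    haveI : IsIso (DerivedCategory.Q.map (ρ.app X)) := (DerivedCategory.isIso_Q_map_iff_quasiIso _ _).2 inferInstance
    haveI : IsIso (F.map (ρ.app X)) := inferInstanceAs (IsIso (L.map (DerivedCategory.Q.map (ρ.app X))))
    have hadd : F.map (R.map u + R.map v) = F.map (R.map u) + F.map (R.map v) := by
      rw [← cancel_mono (cnt K (R.obj Y)), Preadditive.add_comp]
      show L.map _ ≫ _ = L.map _ ≫ _ + L.map _ ≫ _
      rw [cnt_natural, cnt_natural, cnt_natural, Functor.map_add, Functor.map_add, Preadditive.comp_add]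
    rw [← cancel_epi (F.map (ρ.app X)), Preadditive.comp_add, ← F.map_comp, ← F.map_comp, ← F.map_comp,
      Preadditive.comp_add, show ρ.app X ≫ u = R.map u ≫ ρ.app Y from (ρ.naturality u).symm,
      show ρ.app X ≫ v = R.map v ≫ ρ.app Y from (ρ.naturality v).symm, ← Preadditive.add_comp, F.map_comp,
      F.map_comp, F.map_comp, hadd, Preadditive.add_comp]⟩
  haveI : (HomotopyCategory.quotient (ModSite.Mod O) (ComplexShape.up ℤ) ⋙ DerivedCategory.Qh ⋙ L).Additive :=
    Functor.additive_of_iso (Functor.isoWhiskerRight (DerivedCategory.quotientCompQhIso (ModSite.Mod O)).symm L ≪≫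
      Functor.associator _ _ _)
  haveI : (DerivedCategory.Qh ⋙ L).Additive :=
    Functor.additive_of_full_essSurj_comp (HomotopyCategory.quotient (ModSite.Mod O) (ComplexShape.up ℤ)) _
  exact (Localization.functor_additive_iff DerivedCategory.Qh
    (HomotopyCategory.quasiIso (ModSite.Mod O) (ComplexShape.up ℤ)) L).2 inferInstance

end Groth.L10.HExact.Site
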