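import Groth.Agent.L10.HExact.Site
import Groth.Agent.L10.HExact.Criterion

/-!
Exactness of `H^p(M ⊗^L E)` for a bounded above flat complex `E` on a ringed site.
-/

set_option autoImplicit false
set_option linter.style.haveILetI false
set_option backward.defeqAttrib.useBackward true
set_option backward.isDefEq.respectTransparency false
set_option backward.isDefEq.respectTransparency.types false

universe u

open CategoryTheory CategoryTheory.Limits HomologicalComplex

attribute [local instance] HasDerivedCategory.standard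

noncomputable section

namespace Groth.L10.HExact.SiteFlat

/-- monomorphy on opcycles and on homology -/
theorem mono_homologyMap_iff {A : Type*} [Category A] [Abelian A] {K L : CochainComplex A ℤ} (φ : K ⟶ L) (n : ℤ)
    [Mono (φ.f (n + 1))] : Mono (homologyMap φ n) ↔ Mono (opcyclesMap φ n) := by
  constructor
  · intro h
    rw [Preadditive.mono_iff_cancel_zero]
    intro Z a ha
    have h1 : a ≫ K.fromOpcycles n (n + 1) = 0 := by
      have hn : opcyclesMap φ n ≫ L.fromOpcycles n (n + 1) = K.fromOpcycles n (n + 1) ≫ φ.f (n + 1) := by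
        rw [← cancel_epi (K.pOpcycles n), p_opcyclesMap_assoc, p_fromOpcycles, p_fromOpcycles_assoc, φ.comm]
      rw [← cancel_mono (φ.f (n + 1)), Category.assoc, zero_comp, ← hn, reassoc_of% ha, zero_comp]
    obtain ⟨b, hb⟩ := KernelFork.IsLimit.lift' (K.homologyIsKernel n (n + 1) (by simp)) a h1
    have hb' : b ≫ K.homologyι n = a := hb
    have h2 : b ≫ homologyMap φ n ≫ L.homologyι n = 0 := by
      rw [homologyι_naturality, ← Category.assoc, hb', ha]
    have h3 : b ≫ homologyMap φ n = 0 := by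
      rw [← cancel_mono (L.homologyι n), Category.assoc, h2, zero_comp]
    have : b = 0 := (Preadditive.mono_iff_cancel_zero _).1 h _ _ h3
    rw [← hb', this, zero_comp]
  · intro h
    haveI : Mono (homologyMap φ n ≫ L.homologyι n) := by
      rw [homologyι_naturality]; infer_instance
    exact mono_of_mono _ (L.homologyι n)

open Groth.L15.KFlatSite Groth.L15.ModTensor

variable {C : Type u} [SmallCategory C] {J : GrothendieckTopology C} {O : Sheaf J CommRingCat.{u}}
  (E : CochainComplex (ModSite.Mod O) ℤ)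

/-- `M ↦ E ⊗ M` termwise -/
def Φ : ModSite.Mod O ⥤ CochainComplex (ModSite.Mod O) ℤ where
  obj M := ((tR M).mapHomologicalComplex (ComplexShape.up ℤ)).obj E
  map g := (NatTrans.mapHomologicalComplex ((ModSite.tensorBi O).flip.map g) (ComplexShape.up ℤ)).app E
  map_id M := by
    ext n : 1
    exact (NatTrans.congr_app ((ModSite.tensorBi O).flip.map_id M) (E.X n)).trans rfl
  map_comp g h := by
    ext n : 1
    exact (NatTrans.congr_app ((ModSite.tensorBi O).flip.map_comp g h) (E.X n)).trans rfl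

instance additive_Φ : (Φ E).Additive where
  map_add {M N g h} := by
    ext n : 1
    exact ((ModSite.tensorBi O).obj (E.X n)).map_add

theorem singleIso_natural {M M' : ModSite.Mod O} (g : M ⟶ M') :
    (Φ E).map g ≫ (singleIso M' E).hom =
      (singleIso M E).hom ≫ (T E).map ((HomologicalComplex.single (ModSite.Mod O) (ComplexShape.up ℤ) 0).map g) := by
  have h1 : (Φ E).map g ≫ (Groth.L00.SingleTotal.iso (ModSite.tensorBi O).flip M' E).hom =
      (Groth.L00.SingleTotal.iso (ModSite.tensorBi O).flip M E).hom ≫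
        mapBifunctorMap ((HomologicalComplex.single (ModSite.Mod O) (ComplexShape.up ℤ) 0).map g) (𝟙 E)
          (ModSite.tensorBi O).flip (ComplexShape.up ℤ) := by
    ext n : 1
    change ((ModSite.tensorBi O).flip.map g).app (E.X n) ≫
        (Groth.L00.SingleTotal.XIso (ModSite.tensorBi O).flip M' E n).hom =
      (Groth.L00.SingleTotal.XIso (ModSite.tensorBi O).flip M E n).hom ≫ _
    dsimp only [Groth.L00.SingleTotal.XIso]
    rw [Category.assoc, ι_mapBifunctorMap, HomologicalComplex.id_f, CategoryTheory.Functor.map_id, Category.id_comp]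
    simp only [← Category.assoc, ← NatTrans.comp_app, ← Functor.map_comp]
    rw [HomologicalComplex.single_map_f_self, Iso.inv_hom_id_assoc]
  change _ ≫ (_ ≫ (mapBifunctorFlipIso E _ (ModSite.tensorBi O) (ComplexShape.up ℤ)).hom) =
    (_ ≫ (mapBifunctorFlipIso E _ (ModSite.tensorBi O) (ComplexShape.up ℤ)).hom) ≫
      mapBifunctorMap (𝟙 E) ((HomologicalComplex.single (ModSite.Mod O) (ComplexShape.up ℤ) 0).map g)
        (ModSite.tensorBi O) (ComplexShape.up ℤ)
  rw [reassoc_of% h1, Category.assoc]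
  congr 1
  exact mapBifunctorFlipIso_hom_naturality (F := ModSite.tensorBi O) (c := ComplexShape.up ℤ) (𝟙 E)
    ((HomologicalComplex.single (ModSite.Mod O) (ComplexShape.up ℤ) 0).map g)

theorem isIso_cnt_all [ModSite.HasLTensorCx E] (hE : ModSite.IsKFlat E) (P : CochainComplex (ModSite.Mod O) ℤ) :
    IsIso (Site.cnt E P) := by
  let ρ : (Groth.L04.SiteLTensor.RF O).obj P ⟶ P := (Groth.L04.SiteLTensor.rF O).app P
  haveI := Groth.L04.SiteLTensor.quasiIso_rF O P
  haveI : IsIso (DerivedCategory.Q.map ρ) := (DerivedCategory.isIso_Q_map_iff_quasiIso _ _).2 inferInstance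
  haveI := Site.isIso_cnt E (Groth.L04.SiteLTensor.isKFlat_RF O P)
  haveI : QuasiIso (((ModSite.tensorCx O).map ρ).app E) := quasiIso_of_kflat hE ρ
  haveI : QuasiIso ((T E).map ρ) := by
    haveI : QuasiIso ((T E).map ρ ≫ (commIso P E).hom) := by
      rw [commIso_natural]; infer_instance
    exact quasiIso_of_comp_right _ (commIso P E).hom
  haveI : IsIso (DerivedCategory.Q.map ((T E).map ρ)) := (DerivedCategory.isIso_Q_map_iff_quasiIso _ _).2 inferInstance
  haveI : IsIso ((ModSite.LTensorCx E).map (DerivedCategory.Q.map ρ) ≫ Site.cnt E P) := by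
    rw [Site.cnt_natural]; infer_instance
  exact IsIso.of_isIso_comp_left ((ModSite.LTensorCx E).map (DerivedCategory.Q.map ρ)) _

/-- `H^q(M ⊗^L E)` computed termwise -/
theorem nonempty_iso [ModSite.HasLTensorCx E] (hE : ModSite.IsKFlat E) (q : ℤ) :
    Nonempty (DerivedCategory.singleFunctor (ModSite.Mod O) 0 ⋙ ModSite.LTensorCx E ⋙
        DerivedCategory.homologyFunctor (ModSite.Mod O) q ≅
      Φ E ⋙ HomologicalComplex.homologyFunctor (ModSite.Mod O) (ComplexShape.up ℤ) q) := by
  let S := HomologicalComplex.single (ModSite.Mod O) (ComplexShape.up ℤ) 0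
  haveI : ∀ P, IsIso (Site.cnt E P) := isIso_cnt_all E hE
  let e₁ : DerivedCategory.singleFunctor (ModSite.Mod O) 0 ⋙ ModSite.LTensorCx E ≅ S ⋙ T E ⋙ DerivedCategory.Q :=
    Functor.isoWhiskerRight (DerivedCategory.singleFunctorIsoCompQ (ModSite.Mod O) 0) _ ≪≫
      NatIso.ofComponents (fun M => asIso (Site.cnt E (S.obj M))) (fun g => Site.cnt_natural E (S.map g))
  let e₂ : Φ E ≅ S ⋙ T E := NatIso.ofComponents (fun M => singleIso M E) (fun g => singleIso_natural E g)
  exact ⟨(Functor.associator _ _ _).symm ≪≫ Functor.isoWhiskerRight e₁ _ ≪≫ Functor.associator _ _ _ ≪≫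
    Functor.isoWhiskerLeft S (Functor.associator _ _ _ ≪≫
      Functor.isoWhiskerLeft (T E) (DerivedCategory.homologyFunctorFactors _ q)) ≪≫
    (Functor.associator _ _ _).symm ≪≫ Functor.isoWhiskerRight e₂.symm _⟩

/-- opcycles of a termwise tensor product -/
theorem exists_opcyclesIso (M : ModSite.Mod O) (n : ℤ) :
    ∃ ψ : ((Φ E).obj M).opcycles n ≅ (tR M).obj (E.opcycles n),
      ((Φ E).obj M).pOpcycles n ≫ ψ.hom = (tR M).map (E.pOpcycles n) := by
  haveI : PreservesFiniteColimits (tR M) :=
    ⟨fun J _ _ => inferInstanceAs (PreservesColimitsOfShape J ((ModSite.tensorBi O).flip.obj M))⟩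
  have h := (((Φ E).obj M).opcyclesIsCokernel (n - 1) n (by simp)).coconePointUniqueUpToIso
    (CokernelCofork.mapIsColimit _ (E.opcyclesIsCokernel (n - 1) n (by simp)) (tR M))
  exact ⟨_, IsColimit.comp_coconePointUniqueUpToIso_hom
    (((Φ E).obj M).opcyclesIsCokernel (n - 1) n (by simp))
    (CokernelCofork.mapIsColimit _ (E.opcyclesIsCokernel (n - 1) n (by simp)) (tR M)) WalkingParallelPair.one⟩

theorem mono_opcycles_iff {M M' : ModSite.Mod O} (g : M ⟶ M') (n : ℤ) :
    Mono (opcyclesMap ((Φ E).map g) n) ↔ Mono ((tR (E.opcycles n)).map g) := by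
  obtain ⟨ψ, hψ⟩ := exists_opcyclesIso E M n
  obtain ⟨ψ', hψ'⟩ := exists_opcyclesIso E M' n
  have hs : opcyclesMap ((Φ E).map g) n ≫ ψ'.hom = ψ.hom ≫ (tL (E.opcycles n)).map g := by
    rw [← cancel_epi (((Φ E).obj M).pOpcycles n), p_opcyclesMap_assoc, hψ', reassoc_of% hψ]
    exact comm_sq (E.pOpcycles n) g
  rw [show Mono (opcyclesMap ((Φ E).map g) n) ↔ Mono ((tL (E.opcycles n)).map g) from
    (MorphismProperty.monomorphisms (ModSite.Mod O)).arrow_mk_iso_iff (Arrow.isoMk ψ ψ' hs.symm)]
  exact (MorphismProperty.monomorphisms (ModSite.Mod O)).arrow_mk_iso_iff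
    (Arrow.isoMk ((braidIso (E.opcycles n)).app M) ((braidIso (E.opcycles n)).app M')
      ((braidIso (E.opcycles n)).hom.naturality g).symm)

theorem mono_Φ_f {M M' : ModSite.Mod O} (g : M ⟶ M') [Mono g] (n : ℤ) (h : ModSite.IsFlat (E.X n)) :
    Mono (((Φ E).map g).f n) := by
  haveI := (isFlat_iff _).1 h
  exact ((MorphismProperty.monomorphisms (ModSite.Mod O)).arrow_mk_iso_iff
    (Arrow.isoMk ((braidIso (E.X n)).app M) ((braidIso (E.X n)).app M')
      ((braidIso (E.X n)).hom.naturality g).symm)).2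
    (show Mono ((tR (E.X n)).map g) from inferInstance)

set_option maxHeartbeats 1600000 in
theorem right_exact_iff [ModSite.HasLTensorCx E] (e : ℤ) (hEb : ∀ i : ℤ, e < i → IsZero (E.X i))
    (hEf : ∀ i : ℤ, ModSite.IsFlat (E.X i)) (p : ℤ) :
    PreservesFiniteColimits (DerivedCategory.singleFunctor (ModSite.Mod O) 0 ⋙ ModSite.LTensorCx E ⋙
        DerivedCategory.homologyFunctor (ModSite.Mod O) p) ↔ ModSite.IsFlat (cokernel (E.d p (p + 1))) := by
  have hE : ModSite.IsKFlat E := of_bounded E e ((CochainComplex.isStrictlyLE_iff _ _).2 hEb) hEf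
  haveI := Site.additive E
  let G := DerivedCategory.singleFunctor (ModSite.Mod O) 0 ⋙ ModSite.LTensorCx E
  let H := fun q : ℤ => DerivedCategory.homologyFunctor (ModSite.Mod O) q
  let N := fun q : ℤ => Φ E ⋙ HomologicalComplex.homologyFunctor (ModSite.Mod O) (ComplexShape.up ℤ) q
  have hG : ∀ S : ShortComplex (ModSite.Mod O), S.ShortExact →
      ∃ k, Pretriangulated.Triangle.mk (G.map S.f) (G.map S.g) k ∈ Pretriangulated.distinguishedTriangles :=
    fun S hS => exists_triangle (ModSite.LTensorCx E) (Site.exists_distinguished E) hS.singleTriangle hS.singleTriangle_distinguished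
  have hc : E.opcycles (p + 1) ≅ cokernel (E.d p (p + 1)) :=
    (E.opcyclesIsCokernel p (p + 1) (by simp)).coconePointUniqueUpToIso (colimit.isColimit _)
  have hflat : ModSite.IsFlat (cokernel (E.d p (p + 1))) ↔
      ∀ {A B : ModSite.Mod O} (g : A ⟶ B) [Mono g], Mono ((tR (E.opcycles (p + 1))).map g) := by
    rw [isFlat_iff]
    let τ := (ModSite.tensorBi O).flip.mapIso hc
    exact ⟨fun h A B g _ => ((MorphismProperty.monomorphisms (ModSite.Mod O)).arrow_mk_iso_iff
        (Arrow.isoMk (τ.app A) (τ.app B) (τ.hom.naturality g).symm)).2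
          (show Mono ((tR (cokernel (E.d p (p + 1)))).map g) from inferInstance),
      fun h => ⟨fun {A B} g _ => ((MorphismProperty.monomorphisms (ModSite.Mod O)).arrow_mk_iso_iff
        (Arrow.isoMk (τ.app A) (τ.app B) (τ.hom.naturality g).symm)).1 (h g)⟩⟩
  have key : ∀ {A B : ModSite.Mod O} (g : A ⟶ B) [Mono g],
      Mono ((G ⋙ H (p + 1)).map g) ↔ Mono ((tR (E.opcycles (p + 1))).map g) := by
    intro A B g _
    obtain ⟨e⟩ := nonempty_iso E hE (p + 1)
    haveI := mono_Φ_f E g (p + 1 + 1) (hEf _)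
    rw [← mono_opcycles_iff E g (p + 1), ← mono_homologyMap_iff ((Φ E).map g) (p + 1)]
    exact (MorphismProperty.monomorphisms (ModSite.Mod O)).arrow_mk_iso_iff
      (Arrow.isoMk (e.app A) (e.app B) (e.hom.naturality g).symm)
  refine (iff_succ G hG p).trans ?_
  rw [hflat]
  constructor
  · intro h A B g _
    haveI : PreservesFiniteLimits (G ⋙ H (p + 1)) := h
    exact (key g).1 inferInstance
  · intro h
    refine ((G ⋙ H (p + 1)).preservesFiniteLimits_tfae.out 3 0 :).2 fun S hS => ?_
    obtain ⟨k, hT⟩ := hG S hS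
    haveI := hS.mono_f
    exact ⟨DerivedCategory.HomologySequence.exact₂ _ hT (p + 1), (key S.f).2 (h S.f)⟩

end Groth.L10.HExact.SiteFlat
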